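import Mathlib.GroupTheory.Sylow
import Mathlib.GroupTheory.Subgroup.Simple
import Cfsg.Agent.Lib.Char.Burnside

/-!
# Centralisers that are minimal among centralisers
-/

set_option autoImplicit false
set_option linter.unusedSectionVars false

namespace CfsgLib.ConjRankThree

variable {G : Type*} [Group G]

/-- The centraliser of an element. -/
abbrev Cent (x : G) : Subgroup G := Subgroup.centralizer ({x} : Set G)

/-- The centraliser order. -/
noncomputable abbrev cc (x : G) : ℕ := Nat.card (Cent x)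

theorem mem_cent {x y : G} : y ∈ Cent x ↔ Commute y x :=
  Subgroup.mem_centralizer_singleton_iff

theorem self_mem (x : G) : x ∈ Cent x := mem_cent.2 (Commute.refl x)

theorem cent_le_zpow (x : G) (k : ℤ) : Cent x ≤ Cent (x ^ k) := fun _ hy =>
  mem_cent.2 ((mem_cent.1 hy).zpow_right k)

theorem cent_le_pow (x : G) (k : ℕ) : Cent x ≤ Cent (x ^ k) := fun _ hy =>
  mem_cent.2 ((mem_cent.1 hy).pow_right k)

theorem cent_le_of_mem_zpowers {x y : G} (h : y ∈ Subgroup.zpowers x) : Cent x ≤ Cent y := by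
  obtain ⟨k, rfl⟩ := Subgroup.mem_zpowers_iff.1 h
  exact cent_le_zpow x k

theorem cent_conj (g x : G) :
    Cent (g * x * g⁻¹) = (Cent x).map (MulAut.conj g).toMonoidHom := by
  ext a
  rw [Subgroup.mem_map_equiv, mem_cent, mem_cent, MulAut.conj_symm_apply]
  constructor
  · intro h
    show g⁻¹ * a * g * x = x * (g⁻¹ * a * g)
    calc g⁻¹ * a * g * x = g⁻¹ * (a * (g * x * g⁻¹)) * g := by group
      _ = g⁻¹ * (g * x * g⁻¹ * a) * g := by rw [h.eq]
      _ = x * (g⁻¹ * a * g) := by group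
  · intro h
    show a * (g * x * g⁻¹) = g * x * g⁻¹ * a
    calc a * (g * x * g⁻¹) = g * (g⁻¹ * a * g * x) * g⁻¹ := by group
      _ = g * (x * (g⁻¹ * a * g)) * g⁻¹ := by rw [h.eq]
      _ = g * x * g⁻¹ * a := by group

theorem cc_conj (g x : G) : cc (g * x * g⁻¹) = cc x := by
  rw [cc, cent_conj, Subgroup.card_map_of_injective (MulAut.conj g).injective]

theorem cc_mul_index (x : G) : cc x * (Cent x).index = Nat.card G :=
  Subgroup.card_mul_index _

variable [Finite G]

theorem orderOf_dvd_cc (x : G) : orderOf x ∣ cc x :=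
  Subgroup.orderOf_dvd_natCard _ (self_mem x)

theorem cc_dvd_of_le {x y : G} (h : Cent x ≤ Cent y) : cc x ∣ cc y :=
  Subgroup.card_dvd_of_le h

theorem eq_of_le_of_cc {x y : G} (h : Cent x ≤ Cent y) (hc : cc x = cc y) : Cent x = Cent y :=
  Subgroup.eq_of_le_of_card_ge h hc.ge

theorem two_le_cc {x : G} (hx : x ≠ 1) : 2 ≤ cc x :=
  Finite.one_lt_card_iff_nontrivial.2
    ((Subgroup.nontrivial_iff_exists_ne_one _).2 ⟨x, self_mem x, hx⟩)

/-- A nonidentity element has a power of prime order. -/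
theorem exists_prime_power_elem {x : G} (hx : x ≠ 1) :
    ∃ (p : ℕ) (v : G), p.Prime ∧ orderOf v = p ∧ v ∈ Subgroup.zpowers x ∧ Cent x ≤ Cent v := by
  have h1 : orderOf x ≠ 1 := fun h => hx (orderOf_eq_one_iff.1 h)
  obtain ⟨p, hp, hpd⟩ := Nat.exists_prime_and_dvd h1
  refine ⟨p, x ^ (orderOf x / p), hp, ?_, Subgroup.pow_mem _ (Subgroup.mem_zpowers x) _,
    cent_le_pow x _⟩
  rw [orderOf_pow, Nat.gcd_eq_right (Nat.div_dvd_of_dvd hpd),
    Nat.div_div_self hpd (orderOf_pos x).ne']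

theorem ne_one_of_prime_order {v : G} {p : ℕ} (hp : p.Prime) (hv : orderOf v = p) : v ≠ 1 := by
  rintro rfl
  rw [orderOf_one] at hv
  exact hp.one_lt.ne hv

/-- An element of a finite group is a product of powers of coprime order. -/
theorem exists_coprime_split (p : ℕ) (hp : p.Prime) (g : G) :
    ∃ i j : ℤ, g = g ^ i * g ^ j ∧ (∃ k, orderOf (g ^ i) = p ^ k) ∧ (orderOf (g ^ j)).Coprime p := by
  set n := orderOf g with hn
  have hn0 : n ≠ 0 := (orderOf_pos g).ne'
  set k := p ^ n.factorization p with hk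
  set m := n / k with hm
  have hkm : k * m = n := Nat.mul_div_cancel' (Nat.ordProj_dvd n p)
  have hcop : Nat.Coprime k m := by
    rw [hk, hm]
    exact (Nat.coprime_ordCompl hp hn0).pow_left _
  have hbez : ((Nat.gcd k m : ℕ) : ℤ) = k * Nat.gcdA k m + m * Nat.gcdB k m := Nat.gcd_eq_gcd_ab k m
  rw [hcop.gcd_eq_one] at hbez
  refine ⟨m * Nat.gcdB k m, k * Nat.gcdA k m, ?_, ?_, ?_⟩
  · rw [← zpow_add, add_comm, ← hbez, Nat.cast_one, zpow_one]
  · have hd : orderOf (g ^ ((m : ℤ) * Nat.gcdB k m)) ∣ p ^ n.factorization p := by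
      refine orderOf_dvd_of_pow_eq_one ?_
      rw [← zpow_natCast, ← zpow_mul, show (m : ℤ) * Nat.gcdB k m * (p ^ n.factorization p : ℕ) =
        (n : ℤ) * Nat.gcdB k m from by rw [← hk, ← hkm]; push_cast; ring, zpow_mul,
        zpow_natCast, hn, pow_orderOf_eq_one, one_zpow]
    obtain ⟨i, -, hi⟩ := (Nat.dvd_prime_pow hp).1 hd
    exact ⟨i, hi⟩
  · have hd : orderOf (g ^ ((k : ℤ) * Nat.gcdA k m)) ∣ m := by
      refine orderOf_dvd_of_pow_eq_one ?_
      rw [← zpow_natCast, ← zpow_mul, show (k : ℤ) * Nat.gcdA k m * (m : ℕ) =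
        (n : ℤ) * Nat.gcdA k m from by rw [← hkm]; push_cast; ring, zpow_mul, zpow_natCast, hn,
        pow_orderOf_eq_one, one_zpow]
    exact (Nat.Coprime.coprime_dvd_left hd (Nat.coprime_ordCompl hp hn0).symm)

/-- The centraliser of `x` contains no strictly smaller centraliser. -/
def Minimal' (x : G) : Prop := ∀ v : G, v ≠ 1 → Cent v ≤ Cent x → Cent v = Cent x

/-- An element of coprime order in a minimal centraliser is central in it. -/
theorem le_cent_of_coprime {x u : G} (hmin : Minimal' x) (hx : x ≠ 1) (hu : u ∈ Cent x)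
    (hcop : (orderOf u).Coprime (orderOf x)) : Cent x ≤ Cent u := by
  have hc : Commute x u := (mem_cent.1 hu).symm
  set w := x * u with hw
  have hxw : x ∈ Subgroup.zpowers w := by
    obtain ⟨k, hk1, hk2⟩ := Nat.chineseRemainder hcop.symm 1 0
    refine Subgroup.mem_zpowers_iff.2 ⟨(k : ℤ), ?_⟩
    rw [zpow_natCast, hw, hc.mul_pow, pow_eq_one_iff_modEq.2 hk2,
      pow_eq_pow_iff_modEq.2 hk1, pow_one, mul_one]
  have huw : u ∈ Subgroup.zpowers w := by
    obtain ⟨k, hk1, hk2⟩ := Nat.chineseRemainder hcop.symm 0 1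
    refine Subgroup.mem_zpowers_iff.2 ⟨(k : ℤ), ?_⟩
    rw [zpow_natCast, hw, hc.mul_pow, pow_eq_one_iff_modEq.2 hk1,
      pow_eq_pow_iff_modEq.2 hk2, pow_one, one_mul]
  have hw1 : w ≠ 1 := fun h => hx (by rwa [h, Subgroup.zpowers_one_eq_bot, Subgroup.mem_bot] at hxw)
  exact (hmin w hw1 (cent_le_of_mem_zpowers hxw)).ge.trans (cent_le_of_mem_zpowers huw)

/-- A minimal centraliser of an element of prime order `p` which is also maximal is abelian or a
`p`-group. -/
theorem commute_or_isPGroup {x : G} {p : ℕ} (hp : p.Prime) (hx : orderOf x = p)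
    (hmin : Minimal' x) (hmax : ∀ u : G, u ≠ 1 → Cent x ≤ Cent u → Cent u = Cent x) :
    (∀ a ∈ Cent x, ∀ b ∈ Cent x, Commute a b) ∨ IsPGroup p (Cent x) := by
  have := Fact.mk hp
  by_cases hpg : IsPGroup p (Cent x)
  · exact .inr hpg
  left
  have hx1 : x ≠ 1 := ne_one_of_prime_order hp hx
  obtain ⟨q, hq, hqp, hqd⟩ : ∃ q : ℕ, q.Prime ∧ q ≠ p ∧ q ∣ cc x := by
    by_contra h
    push Not at h
    refine hpg (IsPGroup.of_card (p := p) (n := (cc x).primeFactorsList.length) ?_)
    exact Nat.eq_prime_pow_of_unique_prime_dvd Nat.card_pos.ne' fun {d} hd hdc => by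
      by_contra hne
      exact h d hd hne hdc
  have := Fact.mk hq
  obtain ⟨⟨u, hu⟩, hou⟩ := exists_prime_orderOf_dvd_card' (G := Cent x) q hqd
  have hou' : orderOf u = q := by rwa [Subgroup.orderOf_mk] at hou
  have hu1 : u ≠ 1 := ne_one_of_prime_order hq hou'
  have hle := le_cent_of_coprime hmin hx1 hu
    (by rw [hou', hx]; exact (Nat.coprime_primes hq hp).2 hqp)
  have hCu := hmax u hu1 hle
  have hminu : Minimal' u := fun v hv hvu => by rw [hCu]; exact hmin v hv (hvu.trans hCu.le)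
  intro a ha b hb
  obtain ⟨i, j, hij, ⟨k, hk⟩, hj⟩ := exists_coprime_split p hp a
  have h1 : Cent x ≤ Cent (a ^ i) := by
    rw [← hCu]
    exact le_cent_of_coprime hminu hu1 (hCu.ge (zpow_mem ha i)) (by
      rw [hk, hou']; exact ((Nat.coprime_primes hp hq).2 hqp.symm).pow_left k)
  have h2 : Cent x ≤ Cent (a ^ j) :=
    le_cent_of_coprime hmin hx1 (zpow_mem ha j) (by rwa [hx])
  rw [hij]
  exact ((mem_cent.1 (h1 hb)).symm).mul_left ((mem_cent.1 (h2 hb)).symm)

/-- For a prime there is an element of that order whose class size is prime to it. -/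
theorem exists_central_elem {p : ℕ} (hp : p.Prime) (hpG : p ∣ Nat.card G) :
    ∃ (z : G) (P : Sylow p G), orderOf z = p ∧ z ∈ (P : Subgroup G) ∧
      (P : Subgroup G) ≤ Cent z ∧ ¬ p ∣ (Cent z).index := by
  have := Fact.mk hp
  obtain ⟨P⟩ : Nonempty (Sylow p G) := inferInstance
  have hPnt : Nontrivial (P : Subgroup G) := Finite.one_lt_card_iff_nontrivial.1 (by
    rw [P.card_eq_multiplicity]
    exact Nat.one_lt_pow (hp.factorization_pos_of_dvd Nat.card_pos.ne' hpG).ne' hp.one_lt)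
  have hZnt := P.2.center_nontrivial
  have hpZ : p ∣ Nat.card (Subgroup.center (P : Subgroup G)) := by
    obtain ⟨n, hn0, hn⟩ := IsPGroup.nontrivial_iff_card (P.2.to_subgroup _) |>.1 hZnt
    rw [hn]
    exact dvd_pow_self p hn0.ne'
  obtain ⟨⟨⟨z, hz⟩, hzZ⟩, hoz⟩ := exists_prime_orderOf_dvd_card' (G := Subgroup.center (P : Subgroup G)) p hpZ
  have hle : (P : Subgroup G) ≤ Cent z := fun g hg =>
    mem_cent.2 (congrArg Subtype.val (Subgroup.mem_center_iff.1 hzZ ⟨g, hg⟩))
  refine ⟨z, P, ?_, hz, hle, fun h => P.not_dvd_index (h.trans (Subgroup.index_dvd_of_le hle))⟩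
  rwa [Subgroup.orderOf_mk, Subgroup.orderOf_mk] at hoz

/-- No class size is a power of a prime. -/
theorem index_ne_prime_pow [IsSimpleGroup G] (hne : ¬ IsMulCommutative G) {g : G} (hg : g ≠ 1)
    {p : ℕ} (hp : p.Prime) (k : ℕ) : (Cent g).index ≠ p ^ k := by
  intro h
  have := Fact.mk (CfsgLib.Char.card_prime_of_prime_pow_class p k hp g hg h)
  have := isCyclic_of_prime_card (α := G) (p := Nat.card G) rfl
  exact hne IsCyclic.isMulCommutative

/-- A non-abelian simple group has trivial centre. -/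
theorem center_eq_bot [IsSimpleGroup G] (hne : ¬ IsMulCommutative G) :
    Subgroup.center G = ⊥ :=
  (Subgroup.Normal.eq_bot_or_eq_top inferInstance).resolve_right fun h =>
    hne ⟨⟨fun a b => (Subgroup.mem_center_iff.1 (h ▸ Subgroup.mem_top b) a)⟩⟩

end CfsgLib.ConjRankThree
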