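import Mathlib.GroupTheory.FixedPointFree
import Cfsg.Agent.Lib.ConjRankThree.Basic
import Cfsg.Agent.S3071

/-!
# Groups whose centraliser orders form an antichain for divisibility are CA-groups
-/

set_option autoImplicit false
set_option linter.unusedSectionVars false

namespace CfsgLib.ConjRankThree

variable {G : Type*} [Group G] [Finite G]

/-- Every nonidentity `p`-element has a Sylow `p`-subgroup as centraliser. -/
def SylowCent (G : Type*) [Group G] (p : ℕ) : Prop :=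
  ∀ w : G, w ≠ 1 → (∃ k, orderOf w = p ^ k) → ∃ Q : Sylow p G, (Q : Subgroup G) = Cent w

theorem exists_pow_orderOf_of_mem {p : ℕ} [Fact p.Prime] {H : Subgroup G} (hH : IsPGroup p H)
    {w : G} (hw : w ∈ H) : ∃ k, orderOf w = p ^ k := by
  obtain ⟨k, hk⟩ := IsPGroup.iff_orderOf.1 hH ⟨w, hw⟩
  exact ⟨k, by rwa [Subgroup.orderOf_mk] at hk⟩

theorem mem_sylow_of_normalizes {p : ℕ} [Fact p.Prime] (R : Sylow p G) {s : G}
    (hs : ∃ k, orderOf s = p ^ k) (hN : s ∈ Subgroup.normalizer ((R : Subgroup G) : Set G)) :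
    s ∈ (R : Subgroup G) := by
  obtain ⟨k, hk⟩ := hs
  have hZ : IsPGroup p (Subgroup.zpowers s) := IsPGroup.of_card (n := k) (by rw [Nat.card_zpowers, hk])
  have h : s ∈ Subgroup.zpowers s ⊓ Subgroup.normalizer ((R : Subgroup G) : Set G) :=
    ⟨Subgroup.mem_zpowers s, hN⟩
  exact ((hZ.inf_normalizer_sylow R).le h).2

theorem mem_normalizer_cent_of_inverts {t w : G} (h : t * w * t⁻¹ = w⁻¹) :
    t ∈ Subgroup.normalizer (Cent w : Set G) := by
  refine Subgroup.mem_normalizer_iff.2 fun a => ?_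
  have h1 : Cent (t * w * t⁻¹) = Cent w := by
    rw [h]
    refine le_antisymm (fun a ha => mem_cent.2 ?_) (fun a ha => mem_cent.2 (mem_cent.1 ha).inv_right)
    simpa using (mem_cent.1 ha).inv_right
  conv_rhs => rw [← h1, cent_conj, Subgroup.mem_map_equiv, MulAut.conj_symm_apply]
  simp [mul_assoc]

/-- The Sylow 2-subgroups are abelian if they are the centralisers of the 2-elements. -/
theorem commute_of_sylowCent_two (h : SylowCent G 2) (P : Sylow 2 G) :
    ∀ a ∈ (P : Subgroup G), ∀ b ∈ (P : Subgroup G), Commute a b := by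
  have := Fact.mk Nat.prime_two
  have hinv : ∀ s ∈ (P : Subgroup G), ∀ t ∈ (P : Subgroup G), s * s = 1 → t * t = 1 →
      Commute s t := by
    intro s hs t ht hs2 ht2
    by_cases hst : s * t = 1
    · rw [show t = s from mul_left_cancel (hst.trans hs2.symm)]
    obtain ⟨R, hR⟩ := h (s * t) hst (exists_pow_orderOf_of_mem P.2 (mul_mem hs ht))
    have hsinv : s⁻¹ = s := inv_eq_of_mul_eq_one_right hs2
    have htinv : t⁻¹ = t := inv_eq_of_mul_eq_one_right ht2
    have hnorm : s ∈ Subgroup.normalizer ((R : Subgroup G) : Set G) := by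
      rw [hR]
      refine mem_normalizer_cent_of_inverts ?_
      rw [mul_inv_rev, hsinv, htinv, ← mul_assoc, hs2, one_mul]
    have hsR : s ∈ Cent (s * t) := hR ▸ mem_sylow_of_normalizes R (exists_pow_orderOf_of_mem P.2 hs) hnorm
    have h1 := (mem_cent.1 hsR).eq
    rw [← mul_assoc, hs2, one_mul] at h1
    show s * t = t * s
    conv_rhs => rw [h1]
    rw [mul_assoc (s * t), hs2, mul_one]
  have hcard : ∀ R : Sylow 2 G, Nat.card (R : Subgroup G) = Nat.card (P : Subgroup G) := fun R =>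
    Nat.card_congr (R.equiv P).toEquiv
  -- the involutions of `P` are central
  have hE : ∀ u ∈ (P : Subgroup G), u * u = 1 → ∀ g ∈ (P : Subgroup G), Commute u g := by
    intro u hu hu2 g hg
    by_cases hg1 : g = 1
    · rw [hg1]; exact Commute.one_right u
    obtain ⟨p, v, hp, hov, hvg, hle⟩ := exists_prime_power_elem hg1
    have hvP : v ∈ (P : Subgroup G) := Subgroup.zpowers_le.2 hg hvg
    obtain ⟨k, hk⟩ := exists_pow_orderOf_of_mem P.2 hvP
    have hp2 : p = 2 := by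
      refine (Nat.prime_dvd_prime_iff_eq hp Nat.prime_two).1 (hp.dvd_of_dvd_pow (n := k) ?_)
      rw [← hk, hov]
    subst hp2
    have hv1 : v ≠ 1 := ne_one_of_prime_order hp hov
    have hv2 : v * v = 1 := by rw [← sq, ← hov, pow_orderOf_eq_one]
    obtain ⟨R, hR⟩ := h g hg1 (exists_pow_orderOf_of_mem P.2 hg)
    obtain ⟨R', hR'⟩ := h v hv1 ⟨1, by rw [hov, pow_one]⟩
    have heq : Cent g = Cent v := eq_of_le_of_cc hle (by
      show Nat.card (Cent g) = Nat.card (Cent v)
      rw [← hR, ← hR', hcard R, hcard R'])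
    exact mem_cent.1 (heq ▸ mem_cent.2 (hinv u hu v hvP hu2 hv2))
  intro a ha b hb
  by_cases ha1 : a = 1
  · rw [ha1]; exact Commute.one_left b
  obtain ⟨p, v, hp, hov, hva, hle⟩ := exists_prime_power_elem ha1
  have hvP : v ∈ (P : Subgroup G) := Subgroup.zpowers_le.2 ha hva
  obtain ⟨k, hk⟩ := exists_pow_orderOf_of_mem P.2 hvP
  have hp2 : p = 2 := by
    refine (Nat.prime_dvd_prime_iff_eq hp Nat.prime_two).1 (hp.dvd_of_dvd_pow (n := k) ?_)
    rw [← hk, hov]
  subst hp2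
  have hv1 : v ≠ 1 := ne_one_of_prime_order hp hov
  have hv2 : v * v = 1 := by rw [← sq, ← hov, pow_orderOf_eq_one]
  obtain ⟨R, hR⟩ := h a ha1 (exists_pow_orderOf_of_mem P.2 ha)
  have hPv : (P : Subgroup G) ≤ Cent v := fun g hg => mem_cent.2 (hE v hvP hv2 g hg).symm
  obtain ⟨R', hR'⟩ := h v hv1 ⟨1, by rw [hov, pow_one]⟩
  have heq : Cent a = Cent v := eq_of_le_of_cc hle (by
    show Nat.card (Cent a) = Nat.card (Cent v)
    rw [← hR, ← hR', hcard R, hcard R'])
  exact (mem_cent.1 (heq ▸ hPv hb)).symm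

/-- A fixed-point-free involutory conjugation inverts. -/
theorem inverts_of_fpf {t : G} (ht : t * t = 1) (R : Subgroup G)
    (hN : t ∈ Subgroup.normalizer (R : Set G)) (hf : ∀ w ∈ R, Commute t w → w = 1) :
    (∀ w ∈ R, t * w * t⁻¹ = w⁻¹) ∧ ∀ a ∈ R, ∀ b ∈ R, Commute a b := by
  let φ : R → R := fun w => ⟨t * w * t⁻¹, (Subgroup.mem_normalizer_iff.1 hN _).1 w.2⟩
  let ψ : R →* R :=
    { toFun := φ
      map_one' := Subtype.ext (by simp [φ])
      map_mul' := fun a b => Subtype.ext (by simp [φ, mul_assoc]) }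
  have hψ : MonoidHom.FixedPointFree ψ := by
    intro w hw
    refine Subtype.ext (hf w w.2 ?_)
    have h1 : t * (w : G) * t⁻¹ = w := congrArg Subtype.val hw
    exact mul_inv_eq_iff_eq_mul.1 h1
  have hti : t⁻¹ = t := inv_eq_of_mul_eq_one_right ht
  have hinv : Function.Involutive ψ := by
    intro w
    refine Subtype.ext ?_
    show t * (t * (w : G) * t⁻¹) * t⁻¹ = w
    rw [hti]
    calc t * (t * (w : G) * t) * t = t * t * w * (t * t) := by group
      _ = w := by rw [ht, one_mul, mul_one]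
  refine ⟨fun w hw => ?_, fun a ha b hb => ?_⟩
  · exact congrArg Subtype.val (congrFun (MonoidHom.FixedPointFree.coe_eq_inv_of_involutive hψ hinv) ⟨w, hw⟩)
  · exact congrArg Subtype.val
      (MonoidHom.FixedPointFree.commute_all_of_involutive hψ hinv ⟨a, ha⟩ ⟨b, hb⟩).eq

/-- If, for an odd prime, the `p`-elements have Sylow centralisers and involutions have abelian
centralisers, then the Sylow `p`-subgroups are abelian. -/
theorem commute_of_sylowCent_odd {p : ℕ} [hp : Fact p.Prime] (hp2 : p ≠ 2) (h : SylowCent G p)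
    (P : Sylow p G) : ∀ a ∈ (P : Subgroup G), ∀ b ∈ (P : Subgroup G), Commute a b := by
  by_contra hab
  push Not at hab
  obtain ⟨a, ha, b, hb, hab⟩ := hab
  have hodd : ∀ R : Subgroup G, IsPGroup p R → R ≠ ⊥ →
      ¬ 2 ∣ Nat.card (Subgroup.normalizer (R : Set G)) := by
    intro R hR hR1 h2
    have := Fact.mk Nat.prime_two
    obtain ⟨⟨t, htN⟩, hot⟩ := exists_prime_orderOf_dvd_card' (G := Subgroup.normalizer (R : Set G)) 2 h2
    rw [Subgroup.orderOf_mk] at hot
    have ht1 : t ≠ 1 := ne_one_of_prime_order Nat.prime_two hot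
    have ht2 : t * t = 1 := by rw [← sq, ← hot, pow_orderOf_eq_one]
    have hfix : ∀ w : G, (∃ k, orderOf w = p ^ k) → Commute t w → w = 1 := by
      intro w hw hc
      by_contra hw1
      obtain ⟨Q, hQ⟩ := h w hw1 hw
      obtain ⟨k, hk⟩ := exists_pow_orderOf_of_mem Q.2 (hQ ▸ mem_cent.2 hc : t ∈ (Q : Subgroup G))
      rw [hot] at hk
      exact hp2 ((Nat.prime_dvd_prime_iff_eq Nat.prime_two hp.out).1
        (Nat.prime_two.dvd_of_dvd_pow (n := k) (by rw [← hk]))).symm
    obtain ⟨hinv, -⟩ := inverts_of_fpf ht2 R htN fun w hw hc =>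
      hfix w (exists_pow_orderOf_of_mem hR hw) hc
    obtain ⟨w, hwR, hw1⟩ := (Subgroup.bot_or_exists_ne_one R).resolve_left hR1
    obtain ⟨Q, hQ⟩ := h w hw1 (exists_pow_orderOf_of_mem hR hwR)
    have htQ : t ∈ Subgroup.normalizer ((Q : Subgroup G) : Set G) := by
      rw [hQ]; exact mem_normalizer_cent_of_inverts (hinv w hwR)
    obtain ⟨-, hcomm⟩ := inverts_of_fpf ht2 (Q : Subgroup G) htQ fun v hv hc =>
      hfix v (exists_pow_orderOf_of_mem Q.2 hv) hc
    let e := P.equiv Q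
    refine hab ?_
    have h1 := hcomm _ (e ⟨a, ha⟩).2 _ (e ⟨b, hb⟩).2
    have h2 : e (⟨a, ha⟩ * ⟨b, hb⟩) = e (⟨b, hb⟩ * ⟨a, ha⟩) := by
      rw [map_mul, map_mul]; exact Subtype.ext h1.eq
    exact congrArg Subtype.val (e.injective h2)
  have hZne : (P : Subgroup G) ⊓ Subgroup.centralizer ((P : Subgroup G) : Set G) ≠ ⊥ := by
    intro h0
    have ha1 : a ≠ 1 := fun h => hab (h ▸ Commute.one_left b)
    have : Nontrivial (P : Subgroup G) := (Subgroup.nontrivial_iff_exists_ne_one _).2 ⟨a, ha, ha1⟩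
    have := P.2.center_nontrivial
    obtain ⟨⟨⟨z, hz⟩, hzZ⟩, hz1⟩ := exists_ne (1 : Subgroup.center (P : Subgroup G))
    refine hz1 (Subtype.ext (Subtype.ext (Subgroup.mem_bot.1 (h0.le ⟨hz, ?_⟩))))
    exact Subgroup.mem_centralizer_iff.2 fun g hg =>
      congrArg Subtype.val (Subgroup.mem_center_iff.1 hzZ ⟨g, hg⟩)
  have hfree : ∀ R : Subgroup G, (P : Subgroup G) ⊓ Subgroup.centralizer ((P : Subgroup G) : Set G) ≤ R →
      R ≤ P → ¬ ∃ (H K : Subgroup G) (hK : (K.subgroupOf H).Normal),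
        H ≤ Subgroup.normalizer (R : Set G) ∧
        Nonempty ((H ⧸ K.subgroupOf H) ≃* Matrix.SpecialLinearGroup (Fin 2) (ZMod p)) := by
    rintro R hZR hRP ⟨H, K, hK, hHN, ⟨e⟩⟩
    refine hodd R (P.2.to_le hRP) (fun h0 => hZne (le_bot_iff.1 (hZR.trans h0.le))) ?_
    have h1 : Nat.card (H ⧸ K.subgroupOf H) ∣ Nat.card (Subgroup.normalizer (R : Set G)) :=
      (Subgroup.card_quotient_dvd_card _).trans (Subgroup.card_dvd_of_le hHN)
    refine dvd_trans ?_ h1
    rw [Nat.card_congr e.toEquiv]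
    have h2 : orderOf (-1 : Matrix.SpecialLinearGroup (Fin 2) (ZMod p)) = 2 := by
      refine orderOf_eq_prime (by rw [sq, neg_one_mul, neg_neg]) fun h => ?_
      have h00 := congrArg (fun M : Matrix.SpecialLinearGroup (Fin 2) (ZMod p) =>
        (M : Matrix (Fin 2) (Fin 2) (ZMod p)) 0 0) h
      simp at h00
      have : Fact (2 < p) := ⟨lt_of_le_of_ne hp.out.two_le (Ne.symm hp2)⟩
      exact ZMod.neg_one_ne_one h00
    exact h2.symm.dvd.trans (orderOf_dvd_natCard _)
  set W := Cfsg.centerThompsonAOf (P : Subgroup G) with hW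
  have hcen : ∀ z ∈ (P : Subgroup G), (∀ g ∈ (P : Subgroup G), Commute g z) → z ∈ W := by
    intro z hz hzc
    have hmem : z ∈ Cfsg.thompsonSubgroupAOf (P : Subgroup G) := by
      refine ⟨⟨z, hz⟩, ?_, rfl⟩
      obtain ⟨A, hA, hAmax⟩ := Set.exists_max_image {A : Subgroup (P : Subgroup G) | IsMulCommutative A}
        (fun A => Nat.card A) (Set.toFinite _) ⟨⊥, ⟨⟨fun x y => Subtype.ext (by simp [Subgroup.mem_bot.1 x.2, Subgroup.mem_bot.1 y.2])⟩⟩⟩
      refine (le_sSup (a := A) (s := Cfsg.maxAbelianSubgroups (P : Subgroup G)) ⟨hA, hAmax⟩) ?_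
      set z' : (P : Subgroup G) := ⟨z, hz⟩
      have hzc' : z' ∈ Subgroup.center (P : Subgroup G) :=
        Subgroup.mem_center_iff.2 fun g => Subtype.ext (hzc g g.2).eq
      have hB : IsMulCommutative (A ⊔ Subgroup.center (P : Subgroup G) : Subgroup (P : Subgroup G)) := by
        refine ⟨⟨fun x y => Subtype.ext ?_⟩⟩
        obtain ⟨a₁, ha₁, c₁, hc₁, e₁⟩ := Subgroup.mem_sup_of_normal_right.1 x.2
        obtain ⟨a₂, ha₂, c₂, hc₂, e₂⟩ := Subgroup.mem_sup_of_normal_right.1 y.2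
        have hcA : Commute a₁ a₂ := congrArg Subtype.val (hA.is_comm.comm ⟨a₁, ha₁⟩ ⟨a₂, ha₂⟩)
        show (x : (P : Subgroup G)) * y = y * x
        rw [← e₁, ← e₂]
        have k₁ : ∀ g, Commute c₁ g := fun g => ((Subgroup.mem_center_iff.1 hc₁ g)).symm
        have k₂ : ∀ g, Commute c₂ g := fun g => ((Subgroup.mem_center_iff.1 hc₂ g)).symm
        exact ((hcA.mul_right (k₂ a₁).symm).mul_left ((k₁ a₂).mul_right (k₁ c₂))).eq
      have heq := Subgroup.eq_of_le_of_card_ge (le_sup_left : A ≤ A ⊔ Subgroup.center _) (hAmax _ hB)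
      exact heq.ge (le_sup_right (a := A) hzc')
    refine ⟨hmem, Subgroup.mem_centralizer_iff.2 ?_⟩
    rintro _ ⟨g, -, rfl⟩
    exact (hzc g g.2).eq
  have hall : ∀ x ∈ (P : Subgroup G), x ∈ W := by
    intro x hx
    by_cases hx1 : x = 1
    · rw [hx1]; exact one_mem _
    obtain ⟨Q, hQ⟩ := h x hx1 (exists_pow_orderOf_of_mem P.2 hx)
    obtain ⟨g, rfl⟩ := MulAction.exists_smul_eq G P Q
    have hy : ∀ w : G, w ∈ (P : Subgroup G) ↔ Commute (g * w * g⁻¹) x := by
      intro w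
      rw [← mem_cent, ← hQ, Sylow.coe_subgroup_smul]
      constructor
      · exact fun hw => ⟨w, hw, rfl⟩
      · rintro ⟨v, hv, hv'⟩
        rwa [show w = v from mul_left_cancel (mul_right_cancel hv'.symm)]
    have hyP : g⁻¹ * x * g ∈ (P : Subgroup G) := (hy _).2 (by
      rw [show g * (g⁻¹ * x * g) * g⁻¹ = x by group])
    have hyW : g⁻¹ * x * g ∈ W := hcen _ hyP fun w hw => by
      have := ((hy w).1 hw).eq
      show w * (g⁻¹ * x * g) = g⁻¹ * x * g * w
      calc w * (g⁻¹ * x * g) = g⁻¹ * (g * w * g⁻¹ * x) * g := by group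
        _ = g⁻¹ * (x * (g * w * g⁻¹)) * g := by rw [this]
        _ = g⁻¹ * x * g * w := by group
    obtain ⟨n, hn, hnx⟩ := (Cfsg.Agent.S3071.result hp2 P hfree _ hyP x hx).1 ⟨g, by group⟩
    rw [← hnx]
    exact (Subgroup.mem_normalizer_iff.1 hn _).1 hyW
  exact hab ((Subgroup.mem_centralizer_iff.1 (hall b hb).2 a (hall a ha).1))

/-- If the centraliser orders form an antichain for divisibility, then `G` is a CA-group. -/
theorem commute_cent_of_antichain
    (hanti : ∀ x y : G, x ≠ 1 → y ≠ 1 → cc x ∣ cc y → cc x = cc y)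
    {x : G} (hx : x ≠ 1) : ∀ a ∈ Cent x, ∀ b ∈ Cent x, a * b = b * a := by
  have heq : ∀ u v : G, u ≠ 1 → v ≠ 1 → Cent u ≤ Cent v → Cent u = Cent v := fun u v hu hv h =>
    eq_of_le_of_cc h (hanti u v hu hv (cc_dvd_of_le h))
  have dich : ∀ u : G, u ≠ 1 → (∀ a ∈ Cent u, ∀ b ∈ Cent u, Commute a b) ∨
      ∃ q : ℕ, q.Prime ∧ IsPGroup q (Cent u) := by
    intro u hu
    obtain ⟨q, v, hq, hov, -, hle⟩ := exists_prime_power_elem hu
    have hv1 := ne_one_of_prime_order hq hov
    rw [heq u v hu hv1 hle]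
    rcases commute_or_isPGroup hq hov (fun w hw h => heq w v hw hv1 h)
      (fun w hw h => (heq v w hv1 hw h).symm) with h | h
    · exact .inl h
    · exact .inr ⟨q, hq, h⟩
  intro a ha b hb
  rcases dich x hx with h | ⟨p, hp, hpx⟩
  · exact h a ha b hb
  have := Fact.mk hp
  obtain ⟨k, hk⟩ := IsPGroup.iff_card.1 hpx
  have hkS : ∀ Q : Sylow p G, cc x ∣ Nat.card (Q : Subgroup G) := fun Q => by
    show Nat.card (Cent x) ∣ _
    rw [Q.card_eq_multiplicity, hk]
    refine pow_dvd_pow p (hp.pow_dvd_iff_le_factorization Nat.card_pos.ne' |>.1 ?_)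
    rw [← hk]
    exact Subgroup.card_subgroup_dvd_card _
  have hzQ : ∀ (Q : Sylow p G) (z : G), z ≠ 1 → (Q : Subgroup G) ≤ Cent z →
      (Q : Subgroup G) = Cent z ∧ cc z = cc x := by
    intro Q z hz1 hle
    have h1 : Nat.card (Q : Subgroup G) ∣ cc z := Subgroup.card_dvd_of_le hle
    have h2 := hanti x z hx hz1 ((hkS Q).trans h1)
    refine ⟨Subgroup.eq_of_le_of_card_ge hle ?_, h2.symm⟩
    calc cc z = cc x := h2.symm
      _ ≤ Nat.card (Q : Subgroup G) := Nat.le_of_dvd Nat.card_pos (hkS Q)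
  have hsc : SylowCent G p := by
    rintro w hw1 ⟨j, hj⟩
    have hwp : IsPGroup p (Subgroup.zpowers w) := IsPGroup.of_card (n := j) (by rw [Nat.card_zpowers, hj])
    obtain ⟨Q, hQ⟩ := hwp.exists_le_sylow
    have hwQ : w ∈ (Q : Subgroup G) := hQ (Subgroup.mem_zpowers w)
    have : Nontrivial (Q : Subgroup G) := (Subgroup.nontrivial_iff_exists_ne_one _).2 ⟨w, hwQ, hw1⟩
    have := Q.2.center_nontrivial
    obtain ⟨⟨⟨z, hz⟩, hzZ⟩, hz1'⟩ := exists_ne (1 : Subgroup.center (Q : Subgroup G))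
    have hz1 : z ≠ 1 := fun h => hz1' (Subtype.ext (Subtype.ext h))
    have hle : (Q : Subgroup G) ≤ Cent z := fun g hg =>
      mem_cent.2 (congrArg Subtype.val (Subgroup.mem_center_iff.1 hzZ ⟨g, hg⟩))
    obtain ⟨hQz, hcz⟩ := hzQ Q z hz1 hle
    have hzw : z ∈ Cent w := mem_cent.2 (mem_cent.1 (hle hwQ)).symm
    rcases dich w hw1 with h | ⟨q, hq, hqw⟩
    · exact ⟨Q, hQz.trans (heq w z hw1 hz1 fun g hg => mem_cent.2 (h g hg z hzw)).symm⟩
    · have := Fact.mk hq
      obtain ⟨i, hi⟩ := exists_pow_orderOf_of_mem Q.2 hz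
      obtain ⟨i', hi'⟩ := exists_pow_orderOf_of_mem hqw hzw
      have hqp : q = p := by
        refine (Nat.prime_dvd_prime_iff_eq hq hp).1 (hq.dvd_of_dvd_pow (n := i) ?_)
        rw [← hi, hi']
        exact dvd_pow_self q fun h0 => hz1 (orderOf_eq_one_iff.1 (by rw [hi', h0, pow_zero]))
      subst hqp
      obtain ⟨R, hR⟩ := hqw.exists_le_sylow
      refine ⟨R, (Subgroup.eq_of_le_of_card_ge hR ?_).symm⟩
      obtain ⟨j', hj'⟩ := IsPGroup.iff_card.1 hqw
      have hdvd : cc w ∣ cc x ∨ cc x ∣ cc w := by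
        show Nat.card (Cent w) ∣ Nat.card (Cent x) ∨ _
        rcases le_total j' k with h | h
        · exact .inl (by rw [hj', hk]; exact pow_dvd_pow _ h)
        · exact .inr (by
            show Nat.card (Cent x) ∣ Nat.card (Cent w)
            rw [hj', hk]; exact pow_dvd_pow _ h)
      have hwx : cc w = cc x := hdvd.elim (hanti w x hw1 hx) fun h => (hanti x w hx hw1 h).symm
      calc Nat.card (R : Subgroup G) = Nat.card (Q : Subgroup G) := Nat.card_congr (R.equiv Q).toEquiv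
        _ = cc z := by rw [hQz]
        _ ≤ Nat.card (Cent w) := by rw [hcz]; exact hwx.ge
  obtain ⟨P, hP⟩ := hpx.exists_le_sylow
  by_cases hp2 : p = 2
  · subst hp2
    exact (commute_of_sylowCent_two hsc P a (hP ha) b (hP hb)).eq
  · exact (commute_of_sylowCent_odd hp2 hsc P a (hP ha) b (hP hb)).eq

end CfsgLib.ConjRankThree
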