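import Cfsg.Agent.Lib.CA.EvenOrder
import Cfsg.Agent.Lib.PermChar.Basic
import Mathlib.GroupTheory.Subgroup.Simple

/-!
# Simple groups with a self-centralizing regular subgroup of order prime to a point stabilizer
-/

set_option autoImplicit false
set_option linter.unusedSectionVars false

open MulAction
open scoped ComplexConjugate

namespace CfsgLib.ConjRankThree

open CfsgLib

universe u

variable {G : Type u} [Group G] [Fintype G] (A K : Subgroup G)

/-- `A` is self-centralizing and regular on the cosets of `K`, of coprime order. -/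
structure RegSetup : Prop where
  sc : CA.SelfCent A
  cop : (Nat.card A).Coprime (Nat.card K)
  hmul : Nat.card A * Nat.card K = Nat.card G

variable {A K}

namespace RegSetup

variable (h : RegSetup A K)
include h

theorem index_eq : K.index = Nat.card A :=
  Nat.eq_of_mul_eq_mul_left (n := Nat.card K) Nat.card_pos
    (by rw [Subgroup.card_mul_index, mul_comm, h.hmul])

theorem card_omega : Nat.card (G ⧸ K) = Nat.card A := h.index_eq

theorem not_fixed {a : G} (ha : a ∈ A) (ha1 : a ≠ 1) (ω : G ⧸ K) : a • ω ≠ ω := by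
  induction ω using QuotientGroup.induction_on with
  | H g =>
    intro hfix
    rw [Quotient.smul_mk, QuotientGroup.eq, smul_eq_mul] at hfix
    have h1 : g⁻¹ * a * g ∈ K := by
      have := K.inv_mem hfix
      simpa [mul_assoc] using this
    have h2 : orderOf a ∣ Nat.card K := by
      rw [show orderOf a = orderOf (g⁻¹ * a * g) from
        (orderOf_injective (MulAut.conj g⁻¹).toMonoidHom (MulAut.conj g⁻¹).injective a).symm.trans
          (by simp [mul_assoc])]
      exact Subgroup.orderOf_dvd_natCard _ h1
    exact ha1 (orderOf_eq_one_iff.1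
      (Nat.eq_one_of_dvd_coprimes h.cop (Subgroup.orderOf_dvd_natCard _ ha) h2))

theorem card_fixed_eq_zero {a : G} (ha : a ∈ A) (ha1 : a ≠ 1) :
    Nat.card (fixedBy (G ⧸ K) a) = 0 :=
  (PermDerange.card_fixedBy_eq_zero_iff a).2 (h.not_fixed ha ha1)

theorem one_lt_card : 1 < Nat.card A := by
  obtain ⟨a, ha, ha1⟩ := h.sc.exists_ne_one
  exact Finite.one_lt_card_iff_nontrivial.2 ((Subgroup.nontrivial_iff_exists_ne_one _).2 ⟨a, ha, ha1⟩)

/-- Not every nonidentity element fixes at most one point. -/
theorem exists_two_fixed [IsSimpleGroup G] (hne : ¬ IsMulCommutative G) :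
    ∃ g : G, g ≠ 1 ∧ 2 ≤ Nat.card (fixedBy (G ⧸ K) g) := by
  classical
  by_contra hno
  push Not at hno
  set π : G → ℕ := fun g => Nat.card (fixedBy (G ⧸ K) g) with hπdef
  have hπ : ∀ g, g ≠ 1 → π g ≤ 1 := fun g hg => Nat.le_of_lt_succ (hno g hg)
  have hsum : ∑ g : G, π g = Nat.card G := PermDerange.sum_card_fixedBy_transitive
  have h1 : π 1 = Nat.card A := by
    rw [← h.card_omega]
    exact Nat.card_congr (Equiv.subtypeUnivEquiv fun ω => one_smul G ω)
  set D := Finset.univ.filter fun g : G => π g = 0 with hD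
  have hcount : D.card + 1 = Nat.card A := by
    have hsplit : ∀ g : G, π g + (if π g = 0 then 1 else 0) + (if g = 1 then 1 else 0) =
        1 + (if g = 1 then Nat.card A else 0) := by
      intro g
      by_cases hg : g = 1
      · have := h.one_lt_card
        rw [if_pos hg, if_pos hg, hg, h1, if_neg (by omega)]
        omega
      · rw [if_neg hg, if_neg hg]
        have := hπ g hg
        split <;> omega
    have := Finset.sum_congr rfl fun g (_ : g ∈ Finset.univ) => hsplit g
    simp only [Finset.sum_add_distrib, Finset.sum_boole, Finset.sum_ite_eq', Finset.mem_univ,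
      if_true, Finset.sum_const, Finset.card_univ, smul_eq_mul, mul_one, hsum,
      Nat.cast_id, ← Nat.card_eq_fintype_card, ← hD] at this
    have e1 : ((Finset.univ : Finset G).filter fun x => x = 1).card = 1 := Finset.card_eq_one.2 ⟨1, by ext; simp⟩
    omega
  set As := Finset.univ.filter fun g : G => g ∈ A ∧ g ≠ 1 with hAs
  have hsub : As ⊆ D := fun g hg => by
    obtain ⟨hgA, hg1⟩ := (Finset.mem_filter.1 hg).2
    exact Finset.mem_filter.2 ⟨Finset.mem_univ _, h.card_fixed_eq_zero hgA hg1⟩
  have hAcard : As.card + 1 = Nat.card A := by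
    rw [hAs, show (Finset.univ.filter fun g : G => g ∈ A ∧ g ≠ 1) =
      (Finset.univ.filter fun g : G => g ∈ A).erase 1 by ext; simp [and_comm],
      Finset.card_erase_add_one (by simp [one_mem]), Nat.card_eq_fintype_card, Fintype.card_subtype]
  have heq : As = D := Finset.eq_of_subset_of_card_le hsub (by omega)
  have hN : A.Normal := by
    refine ⟨fun a ha g => ?_⟩
    by_cases ha1 : a = 1
    · simp [ha1]
    have hd : g * a * g⁻¹ ∈ D := by
      refine Finset.mem_filter.2 ⟨Finset.mem_univ _, (PermDerange.card_fixedBy_eq_zero_iff _).2 fun ω hω => ?_⟩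
      refine h.not_fixed ha ha1 (g⁻¹ • ω) ?_
      calc a • g⁻¹ • ω = g⁻¹ • (g * a * g⁻¹) • ω := by
            simp only [smul_smul]; congr 1; group
        _ = g⁻¹ • ω := by rw [hω]
    exact (Finset.mem_filter.1 (heq ▸ hd)).2.1
  rcases hN.eq_bot_or_eq_top with hb | ht
  · exact h.sc.ne_bot hb
  · exact hne ⟨⟨fun x y => h.sc.comm (ht ▸ Subgroup.mem_top x) (ht ▸ Subgroup.mem_top y)⟩⟩

variable [Fintype A] [Fintype (G ⧸ K)]

theorem classInner_ind_piFun (l : Cfsg.IrrCharacter A) :
    Cfsg.classInner (Cfsg.indFun A (l : A → ℂ)) (PermChar.piFun G (G ⧸ K)) = 1 := by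
  classical
  rw [Char.classInner_indFun A _ _ (Char.IsCharacter.isClassFunction PermChar.isCharacter_piFun),
    Cfsg.classInner, Finset.sum_eq_single 1]
  · simp only [OneMemClass.coe_one, PermChar.piFun_one, CA.irr_apply_one h.sc, one_mul, map_natCast,
      ← Nat.card_eq_fintype_card (α := G ⧸ K), h.card_omega]
    exact inv_mul_cancel₀ (Nat.cast_ne_zero.2 Nat.card_pos.ne')
  · intro b _ hb
    simp only [PermChar.piFun]
    rw [h.card_fixed_eq_zero b.2 fun e => hb (Subtype.ext e)]
    simp
  · simp

/-- The permutation character is `1 + χ` with `χ` irreducible. -/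
theorem piFun_eq_one_add [IsSimpleGroup G] (hne : ¬ IsMulCommutative G) :
    ∃ χ : Cfsg.IrrCharacter G, χ ≠ Char.principalIrr ∧
      PermChar.piFun G (G ⧸ K) = fun g => 1 + (χ : G → ℂ) g := by
  classical
  set m : Cfsg.IrrCharacter G → ℕ := fun χ => PermChar.mult (G ⧸ K) χ.1 with hm
  have hn : Fintype.card (G ⧸ K) = Nat.card A := by rw [← Nat.card_eq_fintype_card, h.card_omega]
  have hm1 : m Char.principalIrr = 1 := PermChar.mult_principal
  -- the multiplicities on `A`
  have hex : ∀ (l : Cfsg.IrrCharacter A) (χ : Cfsg.IrrCharacter G),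
      ∃ k : ℕ, Cfsg.classInner (Cfsg.indFun A (l : A → ℂ)) (χ : G → ℂ) = k := fun l χ =>
    Char.IsCharacter.exists_nat_classInner
      (Char.IsCharacter.indFun A (Char.IsIrrCharacter.isCharacter l.2)) χ.2
  choose k hk using hex
  have hsum : ∀ l : Cfsg.IrrCharacter A, ∑ χ, k l χ * m χ = 1 := by
    intro l
    have h1 := h.classInner_ind_piFun l
    rw [Char.IsClassFunction.eq_sum_classInner (Char.isClassFunction_indFun A (l : A → ℂ)),
      PermChar.piFun_eq_sum, Char.classInner_sum_smul_sum_smul] at h1
    simp only [hk, map_natCast] at h1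
    exact_mod_cast h1
  have htriv : ∀ χ : Cfsg.IrrCharacter G, χ ≠ Char.principalIrr → m χ ≠ 0 →
      k Char.principalIrr χ = 0 := by
    intro χ hχ hmχ
    have h1 := hsum Char.principalIrr
    have hp : k Char.principalIrr Char.principalIrr = 1 := by
      have h2 := hk Char.principalIrr Char.principalIrr
      rw [Char.classInner_indFun A _ _ (Char.IsIrrCharacter.isClassFunction Char.principalIrr.2)] at h2
      have h3 := Char.classInner_irr_self (Char.principalIrr : Cfsg.IrrCharacter A).2
      have h4 : (fun b : A => (Char.principalIrr : Cfsg.IrrCharacter G).1 b) =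
          (Char.principalIrr : Cfsg.IrrCharacter A).1 := funext fun b => by simp
      rw [h4, h3] at h2
      exact_mod_cast h2.symm
    rw [← Finset.add_sum_erase _ _ (Finset.mem_univ Char.principalIrr), hp, hm1] at h1
    have h2 : k Char.principalIrr χ * m χ ≤
        ∑ x ∈ Finset.univ.erase Char.principalIrr, k Char.principalIrr x * m x :=
      Finset.single_le_sum (f := fun x => k Char.principalIrr x * m x) (fun _ _ => Nat.zero_le _)
        (Finset.mem_erase.2 ⟨hχ, Finset.mem_univ χ⟩)
    exact (Nat.mul_eq_zero.1 (by omega : k Char.principalIrr χ * m χ = 0)).resolve_right hmχ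
  have hsome : ∀ χ : Cfsg.IrrCharacter G, χ ≠ Char.principalIrr → m χ ≠ 0 →
      ∃ l : CA.NP A, k l.1 χ ≠ 0 := by
    intro χ hχ hmχ
    by_contra hall
    push Not at hall
    have hz : ∀ l, k l χ = 0 := fun l =>
      if e : l = Char.principalIrr then e ▸ htriv χ hχ hmχ else hall ⟨l, e⟩
    obtain ⟨d, hd, hχd⟩ := Char.IsIrrCharacter.exists_degree χ.2
    have hzero : ∑ l : Cfsg.IrrCharacter A,
        Cfsg.classInner (l : A → ℂ) (fun b : A => (χ : G → ℂ) b) = 0 :=
      Finset.sum_eq_zero fun l _ => by
        rw [← Char.classInner_indFun A _ _ (Char.IsIrrCharacter.isClassFunction χ.2), hk, hz,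
          Nat.cast_zero]
    rw [← Char.classInner_sum_left, Cfsg.classInner, Finset.sum_eq_single 1] at hzero
    · simp only [Finset.sum_apply, CA.irr_apply_one h.sc, Finset.sum_const, Finset.card_univ,
        nsmul_eq_mul, mul_one, OneMemClass.coe_one, hχd, map_natCast,
        ← Nat.card_eq_fintype_card, CA.card_irrA h.sc] at hzero
      rw [inv_mul_cancel_left₀ (Nat.cast_ne_zero.2 Nat.card_pos.ne')] at hzero
      exact absurd (Nat.cast_eq_zero.1 hzero) (by omega)
    · intro b _ hb
      have h1 := CA.colA h.sc b 1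
      rw [if_neg hb] at h1
      simp only [CA.irr_apply_one h.sc, map_one, mul_one] at h1
      rw [Finset.sum_apply, h1, zero_mul]
    · simp
  obtain ⟨ε, μ, hε, hμ, hdiff⟩ := CA.Even.exists_exceptional h.sc
  have hε0 : ε ≠ 0 := by rcases hε with e | e <;> simp [e]
  have hd : ∀ (l l' : CA.NP A) (χ : Cfsg.IrrCharacter G), (k l.1 χ : ℂ) - k l'.1 χ =
      ε * ((if μ (CA.orb A l) = χ then 1 else 0) - (if μ (CA.orb A l') = χ then 1 else 0)) := by
    intro l l' χ
    rw [← hk, ← hk, ← Char.classInner_sub_left, hdiff, Char.classInner_smul_left,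
      Char.classInner_sub_left, Char.classInner_irrCharacter, Char.classInner_irrCharacter]
  have hneg : ∀ {a b : ℕ}, (a : ℂ) - b = 0 → a = b := fun h => Nat.cast_injective (sub_eq_zero.1 h)
  obtain ⟨l₀⟩ := CA.nonempty_np h.sc
  have hone : ∀ (l : CA.NP A) (χ : Cfsg.IrrCharacter G), k l.1 χ * m χ ≤ 1 := fun l χ =>
    (Finset.single_le_sum (f := fun x => k l.1 x * m x) (fun _ _ => Nat.zero_le _)
      (Finset.mem_univ χ)).trans (hsum l.1).le
  by_cases hcase : ∀ o₁ o₂ : CA.Orb A, o₁ ≠ o₂ → m (μ o₁) = 0
  · -- no exceptional constituent: two-transitive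
    have hconst : ∀ χ : Cfsg.IrrCharacter G, χ ≠ Char.principalIrr → m χ ≠ 0 → 1 ≤ k l₀.1 χ := by
      intro χ hχ hmχ
      obtain ⟨l, hl⟩ := hsome χ hχ hmχ
      have h1 := hd l l₀ χ
      by_cases ho : CA.orb A l = CA.orb A l₀
      · rw [ho, sub_self, mul_zero] at h1
        rw [← hneg h1]; omega
      · have e1 : μ (CA.orb A l) ≠ χ := fun e => hmχ (e ▸ hcase _ _ ho)
        have e2 : μ (CA.orb A l₀) ≠ χ := fun e => hmχ (e ▸ hcase _ _ (Ne.symm ho))
        rw [if_neg e1, if_neg e2, sub_self, mul_zero] at h1
        rw [← hneg h1]; omega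
    set S := Finset.univ.filter fun χ : Cfsg.IrrCharacter G => χ ≠ Char.principalIrr ∧ m χ ≠ 0
    have hS : ∑ χ ∈ S, m χ ≤ 1 := by
      calc ∑ χ ∈ S, m χ ≤ ∑ χ ∈ S, k l₀.1 χ * m χ := Finset.sum_le_sum fun χ hχ =>
            le_mul_of_one_le_left (Nat.zero_le _)
              (hconst χ (Finset.mem_filter.1 hχ).2.1 (Finset.mem_filter.1 hχ).2.2)
        _ ≤ ∑ χ, k l₀.1 χ * m χ :=
            Finset.sum_le_sum_of_subset_of_nonneg (Finset.subset_univ _) fun _ _ _ => Nat.zero_le _
        _ = 1 := hsum _
    have hSne : S.Nonempty := by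
      by_contra hS0
      rw [Finset.not_nonempty_iff_eq_empty] at hS0
      have h1 := PermChar.sum_mult_degree (G := G) (Ω := G ⧸ K)
      rw [Finset.sum_eq_single Char.principalIrr] at h1
      · have h2 : Char.degree (Char.principalIrr : Cfsg.IrrCharacter G).1 = 1 := by
          have := Char.IsCharacter.degree_cast
            (Char.IsIrrCharacter.isCharacter (Char.principalIrr : Cfsg.IrrCharacter G).2)
          simp only [Char.principalIrr_apply] at this
          exact_mod_cast this
        have := h.one_lt_card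
        rw [show PermChar.mult (G ⧸ K) (Char.principalIrr : Cfsg.IrrCharacter G).1 = 1 from hm1, h2, hn] at h1
        omega
      · intro χ _ hχ
        have : m χ = 0 := by
          by_contra h0
          exact Finset.notMem_empty χ (hS0 ▸ Finset.mem_filter.2 ⟨Finset.mem_univ χ, hχ, h0⟩)
        rw [show PermChar.mult (G ⧸ K) χ.1 = 0 from this, zero_mul]
      · simp
    obtain ⟨χ, hχS⟩ := hSne
    obtain ⟨hχ, hmχ⟩ := (Finset.mem_filter.1 hχS).2
    have hrest : ∀ ψ, ψ ≠ Char.principalIrr → ψ ≠ χ → m ψ = 0 := by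
      intro ψ hψ hψχ
      by_contra h0
      have hψS : ψ ∈ S := Finset.mem_filter.2 ⟨Finset.mem_univ ψ, hψ, h0⟩
      have h2 : ∑ x ∈ ({χ, ψ} : Finset _), m x ≤ ∑ x ∈ S, m x :=
        Finset.sum_le_sum_of_subset (fun x hx => by
          rcases Finset.mem_insert.1 hx with rfl | hx
          · exact hχS
          · rw [Finset.mem_singleton.1 hx]; exact hψS)
      rw [Finset.sum_pair (Ne.symm hψχ)] at h2
      omega
    have hmχ1 : m χ = 1 := by
      have := (Finset.single_le_sum (f := m) (fun _ _ => Nat.zero_le _) hχS).trans hS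
      omega
    refine ⟨χ, hχ, funext fun g => ?_⟩
    rw [PermChar.piFun_eq_sum, Finset.sum_apply,
      ← Finset.sum_subset (Finset.subset_univ ({Char.principalIrr, χ} : Finset _)) fun ψ _ hψ => by
        simp only [Finset.mem_insert, Finset.mem_singleton, not_or] at hψ
        rw [show PermChar.mult (G ⧸ K) ψ.1 = 0 from hrest ψ hψ.1 hψ.2, Nat.cast_zero, zero_smul,
          Pi.zero_apply],
      Finset.sum_pair (Ne.symm hχ), show PermChar.mult (G ⧸ K) (Char.principalIrr : Cfsg.IrrCharacter G).1 = 1 from hm1,
      show PermChar.mult (G ⧸ K) χ.1 = 1 from hmχ1]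
    simp
  · exfalso
    push Not at hcase
    obtain ⟨o₁, o₂, ho, hm₁⟩ := hcase
    have hout : ∀ o : CA.Orb A, CA.orb A (Quotient.out o) = o := fun o => Quotient.out_eq o
    have hmconst : ∀ o, m (μ o) = m (μ o₁) := by
      intro o
      have h1 : ∑ χ, (m χ : ℂ) * ((k (Quotient.out o).1 χ : ℂ) - k (Quotient.out o₁).1 χ) = 0 := by
        have a1 : (∑ χ, (k (Quotient.out o).1 χ : ℂ) * m χ) = 1 := by exact_mod_cast hsum _
        have a2 : (∑ χ, (k (Quotient.out o₁).1 χ : ℂ) * m χ) = 1 := by exact_mod_cast hsum _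
        rw [Finset.sum_congr rfl fun χ _ => (show (m χ : ℂ) * ((k (Quotient.out o).1 χ : ℂ) -
          k (Quotient.out o₁).1 χ) = (k (Quotient.out o).1 χ : ℂ) * m χ -
            (k (Quotient.out o₁).1 χ : ℂ) * m χ by ring), Finset.sum_sub_distrib, a1, a2, sub_self]
      rw [Finset.sum_congr rfl fun χ _ => (show (m χ : ℂ) * ((k (Quotient.out o).1 χ : ℂ) -
          k (Quotient.out o₁).1 χ) = ε * ((if μ o = χ then (m χ : ℂ) else 0) -
            (if μ o₁ = χ then (m χ : ℂ) else 0)) by
          rw [hd, hout, hout]; split_ifs <;> ring), ← Finset.mul_sum, Finset.sum_sub_distrib,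
        Finset.sum_ite_eq, Finset.sum_ite_eq, if_pos (Finset.mem_univ _), if_pos (Finset.mem_univ _)] at h1
      exact hneg ((mul_eq_zero.1 h1).resolve_left hε0)
    have hμ1 : ∀ o, μ o ≠ Char.principalIrr := by
      intro o e
      obtain ⟨o', ho'⟩ : ∃ o', o' ≠ o := by
        by_cases e1 : o = o₁
        · exact ⟨o₂, fun e2 => ho (e1.symm.trans e2.symm)⟩
        · exact ⟨o₁, fun e2 => e1 e2.symm⟩
      have hz : ∀ l : CA.NP A, k l.1 (Char.principalIrr : Cfsg.IrrCharacter G) = 0 := by
        intro l
        have h2 := hk l.1 Char.principalIrr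
        rw [Char.classInner_indFun A _ _ (Char.IsIrrCharacter.isClassFunction Char.principalIrr.2),
          show (fun b : A => (Char.principalIrr : Cfsg.IrrCharacter G).1 b) =
            (Char.principalIrr : Cfsg.IrrCharacter A).1 from funext fun b => by simp,
          Char.classInner_irr_of_ne l.1.2 Char.principalIrr.2 fun e => l.2 (Subtype.ext e)] at h2
        exact_mod_cast h2.symm
      have h1 := hd (Quotient.out o) (Quotient.out o') Char.principalIrr
      rw [hout, hout, if_pos e, if_neg (fun e' => ho' (hμ (e'.trans e.symm))), hz, hz] at h1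
      simp [hε0, Ne.symm hε0] at h1
    have hm0 : ∀ o, m (μ o) ≠ 0 := fun o => (hmconst o).symm ▸ hm₁
    -- every `l` lies under some exceptional constituent
    have hunder : ∀ l : CA.NP A, ∃ o, k l.1 (μ o) ≠ 0 := by
      intro l
      by_contra hall
      push Not at hall
      obtain ⟨o', ho'⟩ : ∃ o', o' ≠ CA.orb A l := by
        by_cases e1 : CA.orb A l = o₁
        · exact ⟨o₂, fun e2 => ho (e1.symm.trans e2.symm)⟩
        · exact ⟨o₁, fun e2 => e1 e2.symm⟩
      have h1 := hd l (Quotient.out o') (μ (CA.orb A l))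
      have h2 := hd l (Quotient.out o') (μ o')
      rw [hout, if_pos rfl, if_neg (fun e => ho' (hμ e)), hall] at h1
      rw [hout, if_pos rfl, if_neg (fun e => ho' (hμ e).symm), hall] at h2
      have h3 : ((k (Quotient.out o').1 (μ (CA.orb A l)) + k (Quotient.out o').1 (μ o') : ℕ) : ℂ) =
          (0 : ℕ) := by push_cast at h1 h2 ⊢; linear_combination -h1 - h2
      have h4 := Nat.cast_injective h3
      have h5 : k (Quotient.out o').1 (μ (CA.orb A l)) = 0 := by omega
      rw [h5] at h1
      simp [hε0, Ne.symm hε0] at h1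
    have hm1' : ∀ o, m (μ o) = 1 := by
      intro o
      obtain ⟨o', ho'⟩ := hunder l₀
      rw [hmconst o, ← hmconst o']
      have h1 := hone l₀ (μ o')
      have := Nat.le_mul_of_pos_left (m (μ o')) (Nat.pos_of_ne_zero ho')
      have := hm0 o'
      omega
    have hrest : ∀ χ, χ ≠ Char.principalIrr → (∀ o, μ o ≠ χ) → m χ = 0 := by
      intro χ hχ hχμ
      by_contra hmχ
      obtain ⟨l, hl⟩ := hsome χ hχ hmχ
      obtain ⟨o, ho'⟩ := hunder l
      have h2 : ∑ x ∈ ({μ o, χ} : Finset _), k l.1 x * m x ≤ ∑ x, k l.1 x * m x :=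
        Finset.sum_le_sum_of_subset (Finset.subset_univ _)
      rw [Finset.sum_pair (hχμ o), hsum] at h2
      have := Nat.mul_pos (Nat.pos_of_ne_zero ho') (Nat.pos_of_ne_zero (hm0 o))
      have := Nat.mul_pos (Nat.pos_of_ne_zero hl) (Nat.pos_of_ne_zero hmχ)
      omega
    -- the permutation character
    set t := Fintype.card (CA.Orb A) with ht
    have ht2 : 2 ≤ t := Fintype.one_lt_card_iff.2 ⟨o₁, o₂, ho⟩
    set T := insert Char.principalIrr (Finset.univ.image μ) with hT
    have hnot : (Char.principalIrr : Cfsg.IrrCharacter G) ∉ Finset.univ.image μ := by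
      simp only [Finset.mem_image, Finset.mem_univ, true_and, not_exists]
      exact hμ1
    have hTm : ∀ χ, χ ∉ T → m χ = 0 := fun χ hχ => by
      simp only [hT, Finset.mem_insert, Finset.mem_image, Finset.mem_univ, true_and, not_or,
        not_exists] at hχ
      exact hrest χ hχ.1 hχ.2
    have hπ : ∀ g : G, PermChar.piFun G (G ⧸ K) g = 1 + ∑ o, (μ o : G → ℂ) g := by
      intro g
      rw [PermChar.piFun_eq_sum, Finset.sum_apply, ← Finset.sum_subset (Finset.subset_univ T)
        fun χ _ hχ => by rw [show PermChar.mult (G ⧸ K) χ.1 = 0 from hTm χ hχ, Nat.cast_zero, zero_smul,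
          Pi.zero_apply],
        Finset.sum_insert hnot, Finset.sum_image fun a _ b _ e => hμ e,
        show PermChar.mult (G ⧸ K) (Char.principalIrr : Cfsg.IrrCharacter G).1 = 1 from hm1]
      simp [show ∀ o, PermChar.mult (G ⧸ K) (μ o).1 = 1 from hm1']
    have hr : PermDerange.numOrbitals G (G ⧸ K) = t + 1 := by
      rw [PermChar.numOrbitals_eq (QuotientGroup.mk 1 : G ⧸ K), ← PermChar.sum_mult_sq,
        ← Finset.sum_subset (Finset.subset_univ T)
          fun χ _ hχ => by rw [show PermChar.mult (G ⧸ K) χ.1 = 0 from hTm χ hχ, zero_mul],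
        Finset.sum_insert hnot, Finset.sum_image fun a _ b _ e => hμ e,
        show PermChar.mult (G ⧸ K) (Char.principalIrr : Cfsg.IrrCharacter G).1 = 1 from hm1]
      simp [show ∀ o, PermChar.mult (G ⧸ K) (μ o).1 = 1 from hm1', ht, add_comm]
    -- derangements are conjugate into `A`
    set N := Subgroup.normalizer (A : Set G) with hN
    have hder : ∀ g : G, (∀ ω : G ⧸ K, g • ω ≠ ω) → ∃ x : G, x⁻¹ * g * x ∈ A ∧ x⁻¹ * g * x ≠ 1 := by
      intro g hg
      by_contra hnA
      push Not at hnA
      have hg1 : g ≠ 1 := fun e => hg (QuotientGroup.mk 1) (by rw [e, one_smul])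
      have hno : ∀ x : G, x⁻¹ * g * x ∉ A := fun x hx => hg1 (by
        have := congrArg (fun z => x * z * x⁻¹) (hnA x hx)
        simpa [mul_assoc] using this)
      have hsame : ∀ o, (μ o : G → ℂ) g = (μ o₁ : G → ℂ) g := by
        intro o
        have h1 := congrFun (hdiff (Quotient.out o) (Quotient.out o₁)) g
        rw [hout, hout, Pi.sub_apply, Char.indFun_eq_zero_of_forall_notMem A _ g hno,
          Char.indFun_eq_zero_of_forall_notMem A _ g hno, sub_self, Pi.smul_apply, Pi.sub_apply,
          smul_eq_mul] at h1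
        exact sub_eq_zero.1 ((mul_eq_zero.1 h1.symm).resolve_left hε0)
      have h1 := hπ g
      rw [Finset.sum_congr rfl (fun o _ => hsame o), Finset.sum_const, Finset.card_univ, ← ht,
        nsmul_eq_mul, PermChar.piFun, (PermDerange.card_fixedBy_eq_zero_iff g).2 hg,
        Nat.cast_zero] at h1
      have ht0 : (t : ℂ) ≠ 0 := Nat.cast_ne_zero.2 (by omega)
      have hval : -((μ o₁ : G → ℂ) g) = ((1 : ℕ) : ℂ) / t := by
        rw [eq_div_iff ht0]; push_cast; linear_combination h1
      have hint : IsIntegral ℤ (-((μ o₁ : G → ℂ) g)) := by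
        obtain ⟨d, ρ, -, hρ⟩ := (μ o₁).2
        rw [← hρ]
        exact (Char.isIntegral_character ρ g).neg
      have := Nat.le_of_dvd one_pos (Char.dvd_of_isIntegral_natCast_div (by omega) (hval ▸ hint))
      omega
    have : Fintype N := Fintype.ofFinite _
    -- the orbits on characters have `|N : A|` elements
    have horb : t * Nat.card N + Nat.card A = Nat.card A * Nat.card A := by
      have hfib : ∀ o : CA.Orb A,
          Nat.card A * (Finset.univ.filter fun l : CA.NP A => CA.orb A l = o).card = Nat.card N := by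
        intro o
        have h1 := Finset.card_eq_sum_card_fiberwise (s := (Finset.univ : Finset N))
          (t := (Finset.univ : Finset (CA.NP A))) (f := fun x => CA.tw A x (Quotient.out o))
          (fun _ _ => Finset.mem_univ _)
        simp only [CA.card_twisting h.sc] at h1
        rw [Finset.card_univ, ← Nat.card_eq_fintype_card, Finset.sum_ite, Finset.sum_const_zero,
          add_zero, Finset.sum_const, smul_eq_mul] at h1
        rw [h1, mul_comm]
        congr 2
        ext l
        simp only [Finset.mem_filter, Finset.mem_univ, true_and]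
        constructor
        · intro e
          exact Quotient.exact ((hout o).trans e.symm)
        · intro e
          exact (Quotient.sound (s := CA.orbSetoid A) e).symm.trans (hout o)
      have hnp : Fintype.card (CA.NP A) + 1 = Nat.card A := by
        rw [Fintype.card_subtype_compl, Fintype.card_subtype_eq, ← Nat.card_eq_fintype_card,
          CA.card_irrA h.sc]
        have := h.one_lt_card
        omega
      have h2 := Finset.card_eq_sum_card_fiberwise (s := (Finset.univ : Finset (CA.NP A)))
        (t := (Finset.univ : Finset (CA.Orb A))) (f := fun l => CA.orb A l)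
        (fun _ _ => Finset.mem_univ _)
      rw [Finset.card_univ] at h2
      have h3 : Nat.card A * Fintype.card (CA.NP A) = t * Nat.card N := by
        rw [h2, Finset.mul_sum, Finset.sum_congr rfl fun o _ => hfib o, Finset.sum_const,
          Finset.card_univ, smul_eq_mul, ← ht]
      rw [← h3, ← hnp]
      ring
    -- the derangements are too few
    set D := Finset.univ.filter fun g : G => ∀ ω : G ⧸ K, g • ω ≠ ω with hDdef
    have hDN : D.card * Nat.card N + Nat.card G ≤ Nat.card G * Nat.card A := by
      set As := Finset.univ.filter fun g : G => g ∈ A ∧ g ≠ 1 with hAs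
      have hAcard : As.card + 1 = Nat.card A := by
        rw [hAs, show (Finset.univ.filter fun g : G => g ∈ A ∧ g ≠ 1) =
          (Finset.univ.filter fun g : G => g ∈ A).erase 1 by ext; simp [and_comm],
          Finset.card_erase_add_one (by simp [one_mem]), Nat.card_eq_fintype_card, Fintype.card_subtype]
      have hle : D.card * Nat.card N ≤ Nat.card G * As.card := by
        rw [Nat.card_eq_fintype_card (α := N), Nat.card_eq_fintype_card (α := G),
          ← Finset.card_univ (α := N), ← Finset.card_univ (α := G), ← Finset.card_product,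
          ← Finset.card_product]
        choose! x hx using hder
        refine Finset.card_le_card_of_injOn
          (fun p => (x p.1 * (p.2 : G), (p.2 : G)⁻¹ * ((x p.1)⁻¹ * p.1 * x p.1) * p.2)) ?_ ?_
        · rintro ⟨d, n⟩ hp
          rw [Finset.mem_coe, Finset.mem_product] at hp
          obtain ⟨h1, h2⟩ := hx d (Finset.mem_filter.1 hp.1).2
          rw [Finset.mem_coe, Finset.mem_product]
          refine ⟨Finset.mem_univ _, Finset.mem_filter.2 ⟨Finset.mem_univ _,
            (Subgroup.mem_normalizer_iff''.1 n.2 _).1 h1, fun e => h2 ?_⟩⟩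
          have := congrArg (fun z => (n : G) * z * (n : G)⁻¹) e
          simpa [mul_assoc] using this
        · rintro ⟨d, n⟩ - ⟨d', n'⟩ - e
          obtain ⟨e1, e2⟩ := Prod.ext_iff.1 e
          simp only at e1 e2
          have hdd : d = d' := by
            have := congrArg (fun z => (x d * (n : G)) * z * (x d * (n : G))⁻¹) e2
            conv_rhs at this => rw [e1]
            simpa [mul_assoc] using this
          subst hdd
          exact Prod.ext rfl (Subtype.ext (mul_left_cancel e1))
      calc D.card * Nat.card N + Nat.card G ≤ Nat.card G * As.card + Nat.card G := by omega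
        _ = Nat.card G * (As.card + 1) := by ring
        _ = Nat.card G * Nat.card A := by rw [hAcard]
    have hid := PermDerange.derangement_identity (G := G) (Ω := G ⧸ K)
    rw [hr, show Nat.card {g : G // ∀ ω : G ⧸ K, g • ω ≠ ω} = D.card by
      rw [Nat.card_eq_fintype_card, Fintype.card_subtype], h.card_omega] at hid
    have hexc : ∑ g : G, PermDerange.excess (G ⧸ K) g = 0 := by
      refine le_antisymm ?_ (Finset.sum_nonneg fun g _ => PermDerange.excess_nonneg g)
      have h1 : (D.card : ℤ) * Nat.card N + Nat.card G ≤ (Nat.card G : ℤ) * Nat.card A := by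
        exact_mod_cast hDN
      have h2 : (t : ℤ) * Nat.card N + Nat.card A = (Nat.card A : ℤ) * Nat.card A := by
        exact_mod_cast horb
      have hNpos : (0 : ℤ) < Nat.card N := by exact_mod_cast Nat.card_pos
      push_cast at hid
      have hmul := mul_le_mul_of_nonneg_left h1 (Nat.cast_nonneg (α := ℤ) (Nat.card A))
      have key : (∑ g : G, PermDerange.excess (G ⧸ K) g) * (Nat.card N : ℤ) ≤ 0 := by
        have e : (∑ g : G, PermDerange.excess (G ⧸ K) g) * (Nat.card N : ℤ) =
            (Nat.card A : ℤ) * (D.card * Nat.card N + Nat.card G) -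
              (Nat.card A : ℤ) * ((Nat.card G : ℤ) * Nat.card A) := by
          linear_combination (-(Nat.card N : ℤ)) * hid - (Nat.card G : ℤ) * h2
        rw [e]
        linarith
      exact nonpos_of_mul_nonpos_left key hNpos
    obtain ⟨g, hg1, hg2⟩ := h.exists_two_fixed hne
    have h0 := (Finset.sum_eq_zero_iff_of_nonneg fun g _ => PermDerange.excess_nonneg g).1 hexc g
      (Finset.mem_univ g)
    rw [PermDerange.excess, if_neg (by omega : ¬ Nat.card (fixedBy (G ⧸ K) g) = 0)] at h0
    rcases mul_eq_zero.1 h0 with e | e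
    · omega
    -- `g` fixes everything
    have hall : ∀ ω : G ⧸ K, g • ω = ω := by
      intro ω
      have hle : fixedBy (G ⧸ K) g = Set.univ := Set.eq_of_subset_of_ncard_le (Set.subset_univ _) (by
        rw [Set.ncard_univ, ← Nat.card_coe_set_eq]; omega)
      exact (hle ▸ Set.mem_univ ω : ω ∈ fixedBy (G ⧸ K) g)
    have hgK : g ∈ K.normalCore := fun x => by
      have := hall (QuotientGroup.mk x⁻¹)
      rw [Quotient.smul_mk, QuotientGroup.eq, smul_eq_mul] at this
      have h5 := K.inv_mem this
      simpa [mul_assoc] using h5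
    rcases (Subgroup.normalCore_normal K).eq_bot_or_eq_top with hb | ht'
    · exact hg1 (Subgroup.mem_bot.1 (hb ▸ hgK))
    · have : K = ⊤ := top_le_iff.1 (ht'.ge.trans (Subgroup.normalCore_le K))
      have h6 := h.index_eq
      rw [this, Subgroup.index_top] at h6
      have := h.one_lt_card
      omega

/-- The action on the cosets of `K` is two-transitive. -/
theorem two_transitive [IsSimpleGroup G] (hne : ¬ IsMulCommutative G) {a b c d : G ⧸ K}
    (hab : a ≠ b) (hcd : c ≠ d) : ∃ g : G, g • a = c ∧ g • b = d := by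
  classical
  obtain ⟨χ, hχ, hπ⟩ := h.piFun_eq_one_add hne
  refine PermDerange.pretransitive_pairs_of_numOrbitals ?_ a b c d hab hcd
  have h2 := PermChar.classInner_piFun_self (G := G) (Ω := G ⧸ K) a
  rw [← PermChar.numOrbitals_eq a, hπ,
    show (fun g => 1 + (χ : G → ℂ) g) =
      (Char.principalIrr : Cfsg.IrrCharacter G).1 + (χ : G → ℂ) from funext fun g => by simp] at h2
  simp only [Char.classInner_add_left, Char.classInner_add_right, Char.classInner_irrCharacter,
    if_true, if_neg hχ, if_neg (Ne.symm hχ)] at h2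
  norm_num at h2
  exact_mod_cast h2.symm

end RegSetup

end CfsgLib.ConjRankThree
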