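import Cfsg.Agent.Lib.ConjRankThree.Basic
import Cfsg.Agent.Lib.ConjRankThree.RegularAbelian
import Cfsg.Agent.Lib.LocEven.Measure

/-!
# In a simple group with three centraliser orders no one properly divides another
-/

set_option autoImplicit false
set_option linter.unusedSectionVars false

open MulAction

namespace CfsgLib.ConjRankThree

universe u

variable {G : Type u} [Group G]

/-- Three centraliser orders, one of them properly dividing another. -/
structure ChainData (G : Type u) [Group G] (a b c : ℕ) : Prop where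
  mem : ∀ x : G, x ≠ 1 → cc x = a ∨ cc x = b ∨ cc x = c
  exA : ∃ x : G, x ≠ 1 ∧ cc x = a
  exB : ∃ x : G, x ≠ 1 ∧ cc x = b
  exC : ∃ x : G, x ≠ 1 ∧ cc x = c
  ab : a ∣ b
  ne_ab : a ≠ b
  ne_ac : a ≠ c
  ne_bc : b ≠ c

variable [Finite G] [IsSimpleGroup G] (hne : ¬ IsMulCommutative G)
include hne

theorem one_lt_index {x : G} (hx : x ≠ 1) : 1 < (Cent x).index := by
  have h0 : (Cent x).index ≠ 0 := Subgroup.index_ne_zero_of_finite
  have h1 : (Cent x).index ≠ 1 := fun h => hx (by
    have h2 : x ∈ Subgroup.center G := Subgroup.mem_center_iff.2 fun g =>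
      (mem_cent.1 ((Subgroup.index_eq_one.1 h).symm ▸ Subgroup.mem_top g : g ∈ Cent x)).eq
    rwa [center_eq_bot hne, Subgroup.mem_bot] at h2)
  omega

variable {a b c : ℕ} (D : ChainData G a b c)
include D

theorem ChainData.posA : 1 < a := by
  obtain ⟨x, hx, rfl⟩ := D.exA
  exact two_le_cc hx

/-- The class indices of the two maximal centraliser orders are coprime. -/
theorem ChainData.coprime_index {x y : G} (hx : x ≠ 1) (hy : y ≠ 1) (hxb : cc x = b) (hyc : cc y = c) :
    (Cent x).index.Coprime (Cent y).index := by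
  refine Nat.coprime_of_dvd fun p hp h1 h2 => ?_
  have hpG : p ∣ Nat.card G := h1.trans (Dvd.intro_left _ (cc_mul_index x))
  obtain ⟨z, P, hz, -, -, hzi⟩ := exists_central_elem hp hpG
  have hz1 := ne_one_of_prime_order hp hz
  have hzG := cc_mul_index z
  rcases D.mem z hz1 with h | h | h
  · refine hzi (h1.trans ?_)
    obtain ⟨k, hk⟩ := D.ab
    refine ⟨k, Nat.eq_of_mul_eq_mul_left (n := a) (by have := D.posA hne; omega) ?_⟩
    have h3 := cc_mul_index x
    rw [hxb, hk] at h3
    rw [h] at hzG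
    rw [hzG, ← h3]
    ring
  · refine hzi (h1.trans ?_)
    have h3 := cc_mul_index x
    rw [hxb, ← hzG, h] at h3
    exact (Nat.eq_of_mul_eq_mul_left (by rw [← hxb]; exact Nat.card_pos) h3).dvd
  · refine hzi (h2.trans ?_)
    have h3 := cc_mul_index y
    rw [hyc, ← hzG, h] at h3
    exact (Nat.eq_of_mul_eq_mul_left (by rw [← hyc]; exact Nat.card_pos) h3).dvd

/-- The basic arithmetic. -/
theorem ChainData.arith : ¬ b ∣ c ∧ ¬ c ∣ b ∧ ¬ c ∣ a ∧ ¬ b ∣ a := by
  obtain ⟨x, hx, hxb⟩ := D.exB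
  obtain ⟨y, hy, hyc⟩ := D.exC
  have hcop := D.coprime_index hne hx hy hxb hyc
  have h1 := cc_mul_index x
  have h2 := cc_mul_index y
  rw [hxb] at h1; rw [hyc] at h2
  have hxi := one_lt_index hne hx
  have hyi := one_lt_index hne hy
  have hbc : ¬ b ∣ c := fun ⟨k, hk⟩ => by
    have h3 : (Cent x).index = k * (Cent y).index := by
      refine Nat.eq_of_mul_eq_mul_left (n := b) (by rw [← hxb]; exact Nat.card_pos) ?_
      rw [h1, ← h2, hk]; ring
    have := Nat.eq_one_of_dvd_coprimes hcop (Dvd.intro_left k h3.symm) dvd_rfl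
    omega
  have hcb : ¬ c ∣ b := fun ⟨k, hk⟩ => by
    have h3 : (Cent y).index = k * (Cent x).index := by
      refine Nat.eq_of_mul_eq_mul_left (n := c) (by rw [← hyc]; exact Nat.card_pos) ?_
      rw [h2, ← h1, hk]; ring
    have := Nat.eq_one_of_dvd_coprimes hcop dvd_rfl (Dvd.intro_left k h3.symm)
    omega
  exact ⟨hbc, hcb, fun h => hcb (h.trans D.ab), fun h => D.ne_ab (Nat.dvd_antisymm D.ab h)⟩

theorem ChainData.eq_b_of_le {x v : G} (hv : v ≠ 1) (hx : cc x = b) (h : Cent x ≤ Cent v) :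
    cc v = b ∧ Cent v = Cent x := by
  obtain ⟨hbc, -, -, hba⟩ := D.arith hne
  have hd : b ∣ cc v := hx ▸ cc_dvd_of_le h
  have hvb : cc v = b := by
    rcases D.mem v hv with e | e | e
    · exact absurd (e ▸ hd) hba
    · exact e
    · exact absurd (e ▸ hd) hbc
  exact ⟨hvb, (eq_of_le_of_cc h (hx.trans hvb.symm)).symm⟩

theorem ChainData.eq_c_of_le {x v : G} (hv : v ≠ 1) (hx : cc x = c) (h : Cent x ≤ Cent v) :
    cc v = c ∧ Cent v = Cent x := by
  obtain ⟨-, hcb, hca, -⟩ := D.arith hne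
  have hd : c ∣ cc v := hx ▸ cc_dvd_of_le h
  have hvc : cc v = c := by
    rcases D.mem v hv with e | e | e
    · exact absurd (e ▸ hd) hca
    · exact absurd (e ▸ hd) hcb
    · exact e
  exact ⟨hvc, (eq_of_le_of_cc h (hx.trans hvc.symm)).symm⟩

theorem ChainData.minimal_a {x : G} (hx : cc x = a) : Minimal' x := by
  intro v hv h
  obtain ⟨-, -, hca, hba⟩ := D.arith hne
  have hd : cc v ∣ a := hx ▸ cc_dvd_of_le h
  refine eq_of_le_of_cc h ?_
  rcases D.mem v hv with e | e | e
  · rw [e, hx]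
  · exact absurd (e ▸ hd) hba
  · exact absurd (e ▸ hd) hca

/-- Elements of the two maximal centraliser orders do not commute. -/
theorem ChainData.not_commute {x y : G} (hx : x ≠ 1) (hy : y ≠ 1) (hxb : cc x = b) (hyc : cc y = c) :
    Nat.card (Cent x) * Nat.card (Cent y) = Nat.card ↥(Cent x ⊓ Cent y) * Nat.card G ∧
      ¬ Commute x y := by
  have hcop := D.coprime_index hne hx hy hxb hyc
  have h1 := cc_mul_index x
  have h2 := cc_mul_index y
  have hle : Nat.card (Cent x) * Nat.card (Cent y) ≤ Nat.card ↥(Cent x ⊓ Cent y) * Nat.card G := by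
    have := LocEven.card_mul_card_le_card_inf_mul (le_top : Cent x ≤ ⊤) (le_top : Cent y ≤ ⊤)
    rwa [Subgroup.card_top] at this
  obtain ⟨g, hg⟩ : (Cent y).index ∣ cc x :=
    hcop.symm.dvd_of_dvd_mul_right (by rw [h1, ← h2]; exact Dvd.intro_left _ rfl)
  have hge : Nat.card ↥(Cent x ⊓ Cent y) * Nat.card G ≤ Nat.card (Cent x) * Nat.card (Cent y) := by
    have hcy : cc y = (Cent x).index * g := by
      refine Nat.eq_of_mul_eq_mul_right (m := (Cent y).index) (by have := one_lt_index hne hy; omega) ?_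
      rw [h2, ← h1, hg]; ring
    have hd : Nat.card ↥(Cent x ⊓ Cent y) ∣ g := by
      have d1 : Nat.card ↥(Cent x ⊓ Cent y) ∣ (Cent y).index * g :=
        hg ▸ Subgroup.card_dvd_of_le inf_le_left
      have d2 : Nat.card ↥(Cent x ⊓ Cent y) ∣ (Cent x).index * g :=
        hcy ▸ Subgroup.card_dvd_of_le inf_le_right
      have := Nat.dvd_gcd d1 d2
      rwa [Nat.gcd_mul_right, hcop.symm.gcd_eq_one, one_mul] at this
    have hgpos : 0 < g := by
      rcases Nat.eq_zero_or_pos g with e | e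
      · rw [e, mul_zero] at hg
        exact absurd hg (Nat.card_pos (α := Cent x)).ne'
      · exact e
    calc Nat.card ↥(Cent x ⊓ Cent y) * Nat.card G ≤ g * Nat.card G :=
          Nat.mul_le_mul_right _ (Nat.le_of_dvd hgpos hd)
      _ = cc x * cc y := by rw [← h1, hg, hcy]; ring
  have heq := le_antisymm hle hge
  refine ⟨heq, fun hc => ?_⟩
  have hxy : x ∈ Cent y := mem_cent.2 hc
  have hsub : Subgroup.normalClosure ({x} : Set G) ≤ Cent y := by
    refine (Subgroup.closure_le _).2 ?_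
    intro w hw
    obtain ⟨z, hz, hzw⟩ := Group.mem_conjugatesOfSet_iff.1 hw
    rw [Set.mem_singleton_iff.1 hz] at hzw
    obtain ⟨g, rfl⟩ := isConj_iff.1 hzw
    obtain ⟨k, hk, h, hh, rfl⟩ := LocEven.exists_mul_of_card_eq heq g
    have h3 : h * x * h⁻¹ = x := by
      rw [(mem_cent.1 hh).eq, mul_inv_cancel_right]
    show k * h * x * (k * h)⁻¹ ∈ Cent y
    rw [show k * h * x * (k * h)⁻¹ = k * (h * x * h⁻¹) * k⁻¹ by group, h3]
    exact mul_mem (mul_mem hk hxy) (inv_mem hk)
  rcases (Subgroup.normalClosure_normal (s := ({x} : Set G))).eq_bot_or_eq_top with hb | ht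
  · exact hx (Subgroup.mem_bot.1 (hb ▸ Subgroup.subset_normalClosure (Set.mem_singleton x)))
  · have := one_lt_index hne hy
    rw [ht, top_le_iff] at hsub
    rw [hsub, Subgroup.index_top] at this
    omega

/-- The two maximal orders are coprime and multiply to the group order. -/
theorem ChainData.coprime_bc : b.Coprime c ∧ b * c = Nat.card G := by
  obtain ⟨x₀, hx₀, hxb₀⟩ := D.exB
  obtain ⟨px, x, hpx, hox, -, hlex⟩ := exists_prime_power_elem hx₀
  have hx := ne_one_of_prime_order hpx hox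
  have hxb := (D.eq_b_of_le hne hx hxb₀ hlex).1
  have hcop : b.Coprime c := by
    refine Nat.coprime_of_dvd fun r hr hrb hrc => ?_
    -- a prime dividing the index of `x` other than `r`
    obtain ⟨p, hp, hpr, hpd⟩ : ∃ p : ℕ, p.Prime ∧ p ≠ r ∧ p ∣ (Cent x).index := by
      by_contra h
      push Not at h
      refine index_ne_prime_pow hne hx hr (Cent x).index.primeFactorsList.length
        (Nat.eq_prime_pow_of_unique_prime_dvd Subgroup.index_ne_zero_of_finite fun {d} hd hdc => ?_)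
      by_contra e
      exact h d hd e hdc
    obtain ⟨z, P, hz, -, -, hzi⟩ := exists_central_elem hp (hpd.trans (Dvd.intro_left _ (cc_mul_index x)))
    have hz1 := ne_one_of_prime_order hp hz
    have hzc : cc z = c := by
      have hzG := cc_mul_index z
      have h3 := cc_mul_index x
      rw [hxb] at h3
      rcases D.mem z hz1 with h | h | h
      · refine absurd (hpd.trans ?_) hzi
        obtain ⟨k, hk⟩ := D.ab
        refine ⟨k, Nat.eq_of_mul_eq_mul_left (n := a) (by have := D.posA hne; omega) ?_⟩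
        rw [h] at hzG
        rw [hzG, ← h3, hk]
        ring
      · refine absurd (hpd.trans ?_) hzi
        rw [← hzG, h] at h3
        exact (Nat.eq_of_mul_eq_mul_left (by rw [← hxb]; exact Nat.card_pos) h3).dvd
      · exact h
    obtain ⟨heq, hnc⟩ := D.not_commute hne hx hz1 hxb hzc
    have hcard : cc x * cc z = Nat.card ↥(Cent x ⊓ Cent z) * Nat.card G := heq
    have hr' : r ∣ Nat.card ↥(Cent x ⊓ Cent z) := by
      have h3 := cc_mul_index x
      have h4 := cc_mul_index z
      have hcop := D.coprime_index hne hx hz1 hxb hzc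
      rw [hxb] at h3
      rw [hzc] at h4
      rw [hxb, hzc] at hcard
      have h5 : c = Nat.card ↥(Cent x ⊓ Cent z) * (Cent x).index :=
        Nat.eq_of_mul_eq_mul_left (n := b) (by rw [← hxb]; exact Nat.card_pos)
          (by rw [hcard, ← h3]; ring)
      have h6 : b = Nat.card ↥(Cent x ⊓ Cent z) * (Cent z).index :=
        Nat.eq_of_mul_eq_mul_right (m := c) (by rw [← hzc]; exact Nat.card_pos)
          (by rw [hcard, ← h4]; ring)
      rw [h5] at hrc
      rw [h6] at hrb
      by_contra hn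
      exact hr.one_lt.ne' (Nat.eq_one_of_dvd_coprimes hcop
        (((hr.dvd_mul).1 hrc).resolve_left hn) (((hr.dvd_mul).1 hrb).resolve_left hn))
    have := Fact.mk hr
    obtain ⟨⟨u, hu⟩, hou⟩ := exists_prime_orderOf_dvd_card' (G := ↥(Cent x ⊓ Cent z)) r hr'
    rw [Subgroup.orderOf_mk] at hou
    have hu1 := ne_one_of_prime_order hr hou
    have hua : cc u = a := by
      rcases D.mem u hu1 with h | h | h
      · exact h
      · exact absurd (mem_cent.1 hu.2) (D.not_commute hne hu1 hz1 h hzc).2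
      · exact absurd (mem_cent.1 hu.1).symm (D.not_commute hne hx hu1 hxb h).2
    have hzu : z ∈ Cent u := mem_cent.2 (mem_cent.1 hu.2).symm
    have hle := le_cent_of_coprime (D.minimal_a hne hua) hu1 hzu
      (by rw [hz, hou]; exact (Nat.coprime_primes hp hr).2 hpr)
    exact hnc (mem_cent.1 (hle (mem_cent.2 (mem_cent.1 hu.1).symm)))
  refine ⟨hcop, ?_⟩
  obtain ⟨y, hy, hyc⟩ := D.exC
  obtain ⟨heq, -⟩ := D.not_commute hne hx hy hxb hyc
  have h1 : Nat.card ↥(Cent x ⊓ Cent y) = 1 :=
    Nat.eq_one_of_dvd_coprimes hcop (hxb ▸ Subgroup.card_dvd_of_le inf_le_left)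
      (hyc ▸ Subgroup.card_dvd_of_le inf_le_right)
  rw [h1, one_mul] at heq
  rw [← hxb, ← hyc]
  exact heq

theorem ChainData.coprime_ac : a.Coprime c :=
  (D.coprime_bc hne).1.coprime_dvd_left D.ab

/-- The centraliser of an element of the third order is self-centralizing. -/
theorem ChainData.selfCent {w₀ : G} (hw₀ : w₀ ≠ 1) (hwc₀ : cc w₀ = c) : CA.SelfCent (Cent w₀) := by
  obtain ⟨hbc, hmul⟩ := D.coprime_bc hne
  obtain ⟨p, w, hp, how, -, hlew⟩ := exists_prime_power_elem hw₀
  have hw := ne_one_of_prime_order hp how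
  obtain ⟨hwc, hCw⟩ := D.eq_c_of_le hne hw hwc₀ hlew
  have hmax : ∀ u : G, u ≠ 1 → Cent w ≤ Cent u → Cent u = Cent w := fun u hu h =>
    (D.eq_c_of_le hne hu hwc h).2
  have hmem : ∀ v : G, v ≠ 1 → v ∈ Cent w → cc v = c := by
    intro v hv hvw
    have hdc : orderOf v ∣ c := hwc ▸ Subgroup.orderOf_dvd_natCard _ hvw
    have hne1 : orderOf v ≠ 1 := fun e => hv (orderOf_eq_one_iff.1 e)
    rcases D.mem v hv with h | h | h
    · exact absurd (Nat.eq_one_of_dvd_coprimes (D.coprime_ac hne) (h ▸ orderOf_dvd_cc v) hdc) hne1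
    · exact absurd (Nat.eq_one_of_dvd_coprimes hbc (h ▸ orderOf_dvd_cc v) hdc) hne1
    · exact h
  have hmin : Minimal' w := fun v hv h =>
    eq_of_le_of_cc h ((hmem v hv (h (self_mem v))).trans hwc.symm)
  rcases commute_or_isPGroup hp how hmin hmax with hab | hpg
  · rw [← hCw]
    refine ⟨fun h => hw (Subgroup.mem_bot.1 (h ▸ self_mem w)), fun v hvw hv => ?_⟩
    refine (eq_of_le_of_cc (fun g hg => mem_cent.2 (hab g hg v hvw)) ?_).symm
    exact hwc.trans (hmem v hv hvw).symm
  · exfalso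
    have := Fact.mk hp
    obtain ⟨k, hk⟩ := IsPGroup.iff_card.1 hpg
    obtain ⟨x, hx, hxb⟩ := D.exB
    refine index_ne_prime_pow hne hx hp k ?_
    refine Nat.eq_of_mul_eq_mul_left (n := b) (by rw [← hxb]; exact Nat.card_pos) ?_
    rw [← hk, show Nat.card (Cent w) = c from hwc, hmul]
    rw [← hxb]
    exact cc_mul_index x

/-- The regular configuration. -/
theorem ChainData.regSetup {y w : G} (hyb : cc y = b) (hw : w ≠ 1) (hwc : cc w = c) :
    RegSetup (Cent w) (Cent y) := by
  obtain ⟨hbc, hmul⟩ := D.coprime_bc hne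
  refine ⟨D.selfCent hne hw hwc, ?_, ?_⟩
  · show (cc w).Coprime (cc y)
    rw [hyb, hwc]
    exact hbc.symm
  · show cc w * cc y = _
    rw [hyb, hwc, mul_comm]
    exact hmul

/-- An element of the second order fixes only one point of the action on its own cosets. -/
theorem ChainData.eq_of_fixed_self {y : G} (hy : y ≠ 1) (hyb : cc y = b) {ω : G ⧸ Cent y}
    (hω : y • ω = ω) : ω = ((1 : G) : G ⧸ Cent y) := by
  cases nonempty_fintype G
  haveI : Fintype (G ⧸ Cent y) := Fintype.ofFinite _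
  obtain ⟨w, hw, hwc⟩ := D.exC
  haveI : Fintype (Cent w) := Fintype.ofFinite _
  have hS := D.regSetup hne hyb hw hwc
  by_contra hne1
  have hfix1 : y • ((1 : G) : G ⧸ Cent y) = ((1 : G) : G ⧸ Cent y) := by
    rw [Quotient.smul_mk, QuotientGroup.eq, smul_eq_mul]
    simp [self_mem]
  have hall : ∀ η : G ⧸ Cent y, y • η = η := by
    intro η
    by_cases e : η = ((1 : G) : G ⧸ Cent y)
    · rw [e, hfix1]
    obtain ⟨g, hg1, hg2⟩ := hS.two_transitive hne (Ne.symm hne1) (Ne.symm e)
    have hgy : Commute g y := by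
      rw [Quotient.smul_mk, QuotientGroup.eq, smul_eq_mul, mul_one, mul_one] at hg1
      exact mem_cent.1 ((Subgroup.inv_mem_iff _).1 hg1)
    rw [← hg2, ← mul_smul, ← hgy.eq, mul_smul, hω]
  have hcore : y ∈ (Cent y).normalCore := fun x => by
    have := hall (QuotientGroup.mk x⁻¹)
    rw [Quotient.smul_mk, QuotientGroup.eq, smul_eq_mul] at this
    simpa [mul_assoc] using (Cent y).inv_mem this
  rcases (Subgroup.normalCore_normal (Cent y)).eq_bot_or_eq_top with hb | ht
  · exact hy (Subgroup.mem_bot.1 (hb ▸ hcore))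
  · have := one_lt_index hne hy
    rw [top_le_iff.1 (ht.ge.trans (Subgroup.normalCore_le _)), Subgroup.index_top] at this
    omega

/-- Every element of the second order fixes exactly one point, and is the only one up to centralisers. -/
theorem ChainData.exists_point {y u : G} (hy : y ≠ 1) (hyb : cc y = b) (hu : u ≠ 1) (hub : cc u = b) :
    ∃ g : G, Cent u = Cent (g * y * g⁻¹) ∧
      ∀ ω : G ⧸ Cent y, u • ω = ω → ω = (g : G ⧸ Cent y) := by
  classical
  cases nonempty_fintype G
  haveI : Fintype (G ⧸ Cent y) := Fintype.ofFinite _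
  haveI : Fintype (G ⧸ Cent u) := Fintype.ofFinite _
  obtain ⟨w, hw, hwc⟩ := D.exC
  haveI : Fintype (Cent w) := Fintype.ofFinite _
  obtain ⟨χ, hχ, hπ⟩ := (D.regSetup hne hyb hw hwc).piFun_eq_one_add hne
  obtain ⟨χ', hχ', hπ'⟩ := (D.regSetup hne hub hw hwc).piFun_eq_one_add hne
  have hsum : ∑ g : G, Nat.card (fixedBy (G ⧸ Cent y) g) * Nat.card (fixedBy (G ⧸ Cent u) g) =
      Nat.card (orbitRel.Quotient G ((G ⧸ Cent y) × (G ⧸ Cent u))) * Nat.card G := by
    rw [← PermDerange.sum_card_fixedBy]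
    refine Finset.sum_congr rfl fun g _ => ?_
    rw [← Nat.card_prod]
    exact Nat.card_congr
      { toFun := fun x => ⟨(x.1.1, x.2.1), Prod.ext x.1.2 x.2.2⟩
        invFun := fun x => (⟨x.1.1, congrArg Prod.fst x.2⟩, ⟨x.1.2, congrArg Prod.snd x.2⟩)
        left_inv := fun x => rfl
        right_inv := fun x => rfl }
  have h2 : 2 ≤ Nat.card (orbitRel.Quotient G ((G ⧸ Cent y) × (G ⧸ Cent u))) := by
    by_contra h
    obtain ⟨hbc, hmul⟩ := D.coprime_bc hne
    have hs : Subsingleton (orbitRel.Quotient G ((G ⧸ Cent y) × (G ⧸ Cent u))) :=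
      Finite.card_le_one_iff_subsingleton.1 (by omega)
    have hpre := (pretransitive_iff_subsingleton_quotient G ((G ⧸ Cent y) × (G ⧸ Cent u))).2 hs
    have hd : Nat.card ((G ⧸ Cent y) × (G ⧸ Cent u)) ∣ Nat.card G := by
      have p₀ : (G ⧸ Cent y) × (G ⧸ Cent u) := (((1 : G) : G ⧸ Cent y), ((1 : G) : G ⧸ Cent u))
      rw [← MulAction.index_stabilizer_of_transitive G p₀]
      exact Subgroup.index_dvd_card _
    rw [Nat.card_prod] at hd
    have e1 : Nat.card (G ⧸ Cent y) = c := by
      refine Nat.eq_of_mul_eq_mul_left (n := b) (by rw [← hyb]; exact Nat.card_pos) ?_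
      rw [hmul, ← hyb]; exact cc_mul_index y
    have e2 : Nat.card (G ⧸ Cent u) = c := by
      refine Nat.eq_of_mul_eq_mul_left (n := b) (by rw [← hub]; exact Nat.card_pos) ?_
      rw [hmul, ← hub]; exact cc_mul_index u
    rw [e1, e2, ← hmul] at hd
    have hc1 : 1 < c := by
      rw [← hwc]; exact two_le_cc hw
    have := Nat.eq_one_of_dvd_coprimes hbc
      (Nat.dvd_of_mul_dvd_mul_right (by omega : 0 < c) hd) dvd_rfl
    omega
  have hin : Cfsg.classInner (PermChar.piFun G (G ⧸ Cent y)) (PermChar.piFun G (G ⧸ Cent u)) =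
      Nat.card (orbitRel.Quotient G ((G ⧸ Cent y) × (G ⧸ Cent u))) := by
    have h := congrArg (Nat.cast : ℕ → ℂ) hsum
    push_cast at h
    simp only [Cfsg.classInner, PermChar.piFun, map_natCast]
    rw [h, mul_comm (Nat.card (orbitRel.Quotient G _) : ℂ),
      inv_mul_cancel_left₀ (Nat.cast_ne_zero.2 Nat.card_pos.ne')]
  have heq : χ = χ' := by
    by_contra e
    rw [hπ, hπ', show (fun g => 1 + (χ : G → ℂ) g) =
      (Char.principalIrr : Cfsg.IrrCharacter G).1 + (χ : G → ℂ) from funext fun g => by simp,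
      show (fun g => 1 + (χ' : G → ℂ) g) =
      (Char.principalIrr : Cfsg.IrrCharacter G).1 + (χ' : G → ℂ) from funext fun g => by simp] at hin
    simp only [Char.classInner_add_left, Char.classInner_add_right, Char.classInner_irrCharacter,
      if_true, if_neg hχ, if_neg (Ne.symm hχ'), if_neg e] at hin
    norm_num at hin
    have hin' : (1 : ℕ) = Nat.card (orbitRel.Quotient G ((G ⧸ Cent y) × (G ⧸ Cent u))) := by
      rw [Nat.card_eq_fintype_card]
      exact_mod_cast hin
    omega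
  have hval : Nat.card (fixedBy (G ⧸ Cent y) u) = Nat.card (fixedBy (G ⧸ Cent u) u) := by
    have h : PermChar.piFun G (G ⧸ Cent y) u = PermChar.piFun G (G ⧸ Cent u) u := by
      rw [hπ, hπ', heq]
    exact Nat.cast_injective h
  have hone : Nat.card (fixedBy (G ⧸ Cent u) u) = 1 := by
    rw [Nat.card_eq_one_iff_unique]
    refine ⟨⟨fun p q => Subtype.ext ?_⟩, ⟨⟨((1 : G) : G ⧸ Cent u), ?_⟩⟩⟩
    · exact (D.eq_of_fixed_self hne hu hub p.2).trans (D.eq_of_fixed_self hne hu hub q.2).symm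
    · rw [mem_fixedBy, Quotient.smul_mk, QuotientGroup.eq, smul_eq_mul]
      simp [self_mem]
  rw [hone, Nat.card_eq_one_iff_unique] at hval
  obtain ⟨⟨huniq⟩, ⟨⟨ω, hω⟩⟩⟩ := hval
  obtain ⟨g, rfl⟩ := QuotientGroup.mk_surjective ω
  have huniq' : ∀ η : G ⧸ Cent y, u • η = η → η = (g : G ⧸ Cent y) := fun η hη =>
    congrArg Subtype.val (huniq ⟨η, hη⟩ ⟨_, hω⟩)
  refine ⟨g, eq_of_le_of_cc (fun h hh => ?_) (by rw [hub, cc_conj, hyb]), huniq'⟩
  have h1 : u • h • (g : G ⧸ Cent y) = h • (g : G ⧸ Cent y) := by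
    rw [← mul_smul, ← (mem_cent.1 hh).eq, mul_smul]
    exact congrArg (h • ·) hω
  have h2 := huniq' _ h1
  rw [Quotient.smul_mk, QuotientGroup.eq, smul_eq_mul] at h2
  rw [cent_conj, Subgroup.mem_map_equiv, MulAut.conj_symm_apply]
  have h3 := (Cent y).inv_mem h2
  simpa [mul_assoc] using h3

/-- The prime order of an element fixing two points is that of any element of the second order. -/
theorem ChainData.prime_eq {y u x : G} {r s : ℕ} (hr : r.Prime) (hs : s.Prime) (hy : y ≠ 1)
    (hyb : cc y = b) (hox : orderOf x = r) {p q : G ⧸ Cent y} (hpq : p ≠ q) (hxp : x • p = p)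
    (hxq : x • q = q) (hou : orderOf u = s) (hub : cc u = b) :
    cc x = a ∧ s = r ∧ ∃ v v' : G, orderOf v = s ∧ orderOf v' = s ∧ v ∈ Cent x ∧ v' ∈ Cent x ∧
      ¬ Commute v v' := by
  classical
  cases nonempty_fintype G
  haveI : Fintype (G ⧸ Cent y) := Fintype.ofFinite _
  obtain ⟨w, hw, hwc⟩ := D.exC
  haveI : Fintype (Cent w) := Fintype.ofFinite _
  have hS := D.regSetup hne hyb hw hwc
  have hu := ne_one_of_prime_order hs hou
  have hx := ne_one_of_prime_order hr hox
  obtain ⟨g, hCu, hugu⟩ := D.exists_point hne hy hyb hu hub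
  obtain ⟨q₀, hq₀⟩ : ∃ q₀ : G ⧸ Cent y, q₀ ≠ (g : G ⧸ Cent y) := by
    by_contra h
    push Not at h
    exact hpq ((h p).trans (h q).symm)
  obtain ⟨k, hk1, hk2⟩ := hS.two_transitive hne hq₀ hpq
  -- `u' := k u k⁻¹` fixes only `q`, `u'' := k' u k'⁻¹` fixes only `p`
  obtain ⟨k', hk'1, hk'2⟩ := hS.two_transitive hne hq₀ hpq.symm
  have hfix : ∀ (k : G) (p : G ⧸ Cent y), k • (g : G ⧸ Cent y) = p →
      (∀ h : G, h • p = p → h ∈ Cent (k * u * k⁻¹)) ∧ (∀ η, (k * u * k⁻¹) • η = η → η = p) := by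
    intro k p hkp
    subst hkp
    refine ⟨fun h hh => ?_, fun η hη => ?_⟩
    · rw [cent_conj, Subgroup.mem_map_equiv, MulAut.conj_symm_apply, hCu, cent_conj,
        Subgroup.mem_map_equiv, MulAut.conj_symm_apply]
      rw [Quotient.smul_mk, Quotient.smul_mk, QuotientGroup.eq, smul_eq_mul, smul_eq_mul] at hh
      simpa [mul_assoc] using (Cent y).inv_mem hh
    · have h1 := hugu (k⁻¹ • η) (by
        conv_rhs => rw [← hη]
        simp only [smul_smul]; congr 1; group)
      rw [← h1, smul_inv_smul]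
  obtain ⟨hvC, hvuniq⟩ := hfix k q hk2
  obtain ⟨hv'C, hv'uniq⟩ := hfix k' p hk'2
  set v := k * u * k⁻¹ with hv
  set v' := k' * u * k'⁻¹ with hv'
  have hordc : ∀ k : G, orderOf (k * u * k⁻¹) = s := fun k => by
    rw [← hou]
    exact orderOf_injective (MulAut.conj k).toMonoidHom (MulAut.conj k).injective u
  have hvx : v ∈ Cent x := mem_cent.2 (mem_cent.1 (hvC x hxq)).symm
  have hv'x : v' ∈ Cent x := mem_cent.2 (mem_cent.1 (hv'C x hxp)).symm
  have hxa : cc x = a := by
    rcases D.mem x hx with h | h | h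
    · exact h
    · obtain ⟨g', -, huniq⟩ := D.exists_point hne hy hyb hx h
      exact absurd ((huniq p hxp).trans (huniq q hxq).symm) hpq
    · exfalso
      have h1 : orderOf x ∣ c := h ▸ orderOf_dvd_cc x
      have h2 : orderOf x ∣ b := by
        have h3 := Subgroup.orderOf_dvd_natCard _ (hvC x hxq)
        rwa [show Nat.card (Cent v) = b from (cc_conj k u).trans hub] at h3
      have := Nat.eq_one_of_dvd_coprimes (D.coprime_bc hne).1 h2 h1
      rw [hox] at this
      exact hr.one_lt.ne' this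
  have hnc : ¬ Commute v v' := by
    intro hc
    have hfv' : v' • p = p := by
      rw [← hk'2, hv', smul_smul, inv_mul_cancel_right, mul_smul]
      congr 1
      have : u ∈ Cent (g * y * g⁻¹) := hCu ▸ self_mem u
      rw [cent_conj, Subgroup.mem_map_equiv, MulAut.conj_symm_apply] at this
      rw [Quotient.smul_mk, QuotientGroup.eq, smul_eq_mul]
      simpa [mul_assoc] using (Cent y).inv_mem this
    have h1 : v' • v • p = v • p := by rw [← mul_smul, ← hc.eq, mul_smul, hfv']
    exact hpq (hvuniq p (hv'uniq _ h1))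
  refine ⟨hxa, ?_, v, v', hordc k, hordc k', hvx, hv'x, hnc⟩
  by_contra hsr
  have hcop : s.Coprime r := (Nat.coprime_primes hs hr).2 hsr
  have hle := le_cent_of_coprime (D.minimal_a hne hxa) hx hvx (by rw [hv, hordc, hox]; exact hcop)
  exact hnc (mem_cent.1 (hle hv'x)).symm

/-- There is no chain. -/
theorem ChainData.false_of : False := by
  classical
  cases nonempty_fintype G
  obtain ⟨y₀, hy₀, hyb₀⟩ := D.exB
  obtain ⟨l, y, hl, hoy, -, hley⟩ := exists_prime_power_elem hy₀
  have hy := ne_one_of_prime_order hl hoy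
  have hyb := (D.eq_b_of_le hne hy hyb₀ hley).1
  haveI : Fintype (G ⧸ Cent y) := Fintype.ofFinite _
  obtain ⟨w, hw, hwc⟩ := D.exC
  haveI : Fintype (Cent w) := Fintype.ofFinite _
  obtain ⟨g, hg, hg2⟩ := (D.regSetup hne hyb hw hwc).exists_two_fixed hne
  obtain ⟨⟨p, hp⟩, ⟨q, hq⟩, hpq⟩ :=
    (Finite.one_lt_card_iff_nontrivial.1 hg2).exists_pair_ne
  have hpq' : p ≠ q := fun e => hpq (Subtype.ext e)
  obtain ⟨r, x, hr, hox, hxg, -⟩ := exists_prime_power_elem hg
  have hstab : x ∈ stabilizer G p ⊓ stabilizer G q :=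
    Subgroup.zpowers_le.2 (⟨hp, hq⟩ : g ∈ stabilizer G p ⊓ stabilizer G q) hxg
  have key : ∀ (s : ℕ) (u : G), s.Prime → orderOf u = s → cc u = b → s = r := fun s u hs hou hub =>
    (D.prime_eq hne hr hs hy hyb hox hpq' hstab.1 hstab.2 hou hub).2.1
  obtain ⟨hxa, hlr, v, v', hov, hov', hvx, hv'x, hnc⟩ :=
    D.prime_eq hne hr hl hy hyb hox hpq' hstab.1 hstab.2 hoy hyb
  have hx := ne_one_of_prime_order hr hox
  -- the least order is a power of `r`
  have hapow : ∀ s : ℕ, s.Prime → s ∣ a → s = r := by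
    intro s hs hsa
    by_contra hsr
    have := Fact.mk hs
    obtain ⟨⟨z, hz⟩, hoz⟩ := exists_prime_orderOf_dvd_card' (G := Cent x) s
      (show s ∣ Nat.card (Cent x) by rw [show Nat.card (Cent x) = a from hxa]; exact hsa)
    rw [Subgroup.orderOf_mk] at hoz
    have hz1 := ne_one_of_prime_order hs hoz
    have hle := le_cent_of_coprime (D.minimal_a hne hxa) hx hz
      (by rw [hoz, hox]; exact (Nat.coprime_primes hs hr).2 hsr)
    rcases D.mem z hz1 with h | h | h
    · have hCz : Cent x = Cent z := eq_of_le_of_cc hle (hxa.trans h.symm)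
      have hle2 := le_cent_of_coprime (D.minimal_a hne h) hz1 (hle hvx)
        (by rw [hov, hoz, hlr]; exact (Nat.coprime_primes hr hs).2 (Ne.symm hsr))
      exact hnc (mem_cent.1 (hle2 (hle hv'x))).symm
    · exact hsr (key s z hs hoz h)
    · have h1 : s ∣ c := h ▸ hoz ▸ orderOf_dvd_cc z
      exact hs.one_lt.ne' (Nat.eq_one_of_dvd_coprimes (D.coprime_ac hne) hsa h1)
  obtain ⟨hbc, hmul⟩ := D.coprime_bc hne
  -- the second order is a power of `r`
  have hbpow : ∀ s : ℕ, s.Prime → s ∣ b → s = r := by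
    intro s hs hsb
    by_contra hsr
    obtain ⟨z, P, hoz, -, -, hzi⟩ := exists_central_elem hs (hmul ▸ dvd_mul_of_dvd_left hsb c)
    have hz1 := ne_one_of_prime_order hs hoz
    have hsG : s ∣ cc z * (Cent z).index := by rw [cc_mul_index, ← hmul]; exact dvd_mul_of_dvd_left hsb c
    have hsc : s ∣ cc z := (hs.dvd_mul.1 hsG).resolve_right hzi
    rcases D.mem z hz1 with h | h | h
    · exact hsr (hapow s hs (h ▸ hsc))
    · exact hsr (key s z hs hoz h)
    · exact hs.one_lt.ne' (Nat.eq_one_of_dvd_coprimes hbc hsb (h ▸ hsc))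
  refine index_ne_prime_pow hne hw hr b.primeFactorsList.length ?_
  have hidx : (Cent w).index = b := by
    refine Nat.eq_of_mul_eq_mul_left (n := c) (by rw [← hwc]; exact Nat.card_pos) ?_
    rw [mul_comm c b, hmul, ← hwc]
    exact cc_mul_index w
  rw [hidx]
  exact Nat.eq_prime_pow_of_unique_prime_dvd (by rw [← hyb]; exact Nat.card_pos.ne') fun {d} hd hdb =>
    hbpow d hd hdb

end CfsgLib.ConjRankThree
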